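import Cfsg.Agent.LargeExtra.FlipBasic
import Cfsg.Agent.LargeExtra.FlipOuter
import Cfsg.Agent.LargeExtra.Tri.CaseTwo

section


/-!
# `H = L_w(2).2` on `w ⊕ w*`, any `w ≥ 4`: transvections (helper754)

helper805's `FlipPair` (`w = 4`) with the width as a parameter.
-/

set_option autoImplicit false
set_option linter.style.haveILetI false

namespace Cfsg.Agent.LargeExtra.WideIrr.FPair

open Cfsg.Agent.Co2Type.Quad Cfsg.Agent.LargeExtra.Base Cfsg.Agent.LargeExtra.TwoCentral
open Cfsg.Agent.LargeExtra.SwapBasic (eq_of_add Keep Flip)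
open Cfsg.Agent.LargeExtra.PGLKill (flip_mul flip_mul_keep keep_mul_flip keep_mul)
open Cfsg.Agent.LargeExtra.FlipBasic
open Module

variable {G : Type*} [Group G] {Q : Subgroup G} {z : G}

/-- The situation: `H = L_n(2).2` on `n ⊕ n*`, `n ≥ 4`. -/
structure Swap (n : ℕ) (h : Large Q z) (U W : Submodule (ZMod 2) h.V) : Prop where
  lag : Lag h U W
  four_le : 4 ≤ n
  cardU : Nat.card U = 2 ^ n
  cardV : Nat.card h.V = 2 ^ (2 * n)
  pres : ∀ c, Keep h U W (h.act c) ∨ Flip h U W (h.act c)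
  swap : ∃ c, Flip h U W (h.act c)
  gl : ∀ φ : U ≃ₗ[ZMod 2] U, ∃ c, ∀ u : U, h.act c u = φ u

variable {n : ℕ} {h : Large Q z} {U W : Submodule (ZMod 2) h.V}

theorem cardV (S : Swap n h U W) : Nat.card h.V = 2 ^ (2 * n) := S.cardV

theorem pow_pos' (S : Swap n h U W) : 16 ≤ 2 ^ n :=
  calc (16 : ℕ) = 2 ^ 4 := by norm_num
    _ ≤ 2 ^ n := Nat.pow_le_pow_right (by norm_num) S.four_le

theorem exists_ne_zero (S : Swap n h U W) : ∃ u ∈ U, u ≠ 0 := by
  have h1 := S.cardU
  by_contra hcon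
  push Not at hcon
  have h2 : U = ⊥ := by
    rw [eq_bot_iff]
    intro u hu
    exact hcon u hu
  have h3 := pow_pos' S
  rw [h2, Nat.card_unique] at h1
  omega

theorem not_keep_flip (S : Swap n h U W) {f : h.V ≃ₗ[ZMod 2] h.V} (hk : Keep h U W f) (hf : Flip h U W f) :
    False := by
  obtain ⟨u, hu, hu0⟩ := exists_ne_zero S
  apply hu0
  have := S.lag.disj _ (hk.1 u hu) (hf.1 u hu)
  exact f.map_eq_zero_iff.1 this

/-- `C_G(z)` induces all transvections `T(u, w)` -/
theorem exists_T (S : Swap n h U W) {u w : h.V} (hu : u ∈ U) (hw : w ∈ W) (hb : h.b u w = 0) :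
    ∃ c, IsT h u w (h.act c) := by
  let T : U →ₗ[ZMod 2] U :=
    { toFun := fun v => v + h.b w v • ⟨u, hu⟩
      map_add' := by
        intro v v'
        rw [Submodule.coe_add, map_add, add_smul]; abel
      map_smul' := by
        intro a v
        rw [Submodule.coe_smul, map_smul, smul_eq_mul, RingHom.id_apply, smul_add, smul_smul] }
  have hT : ∀ v : U, (T v : h.V) = v + h.b w v • u := fun v => rfl
  have hTT : Function.Involutive T := by
    intro v
    apply Subtype.ext
    rw [hT, hT, map_add, map_smul, h.b_comm w u, hb, smul_zero, add_zero, add_assoc, h.add_self, add_zero]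
  obtain ⟨c', hc'⟩ := S.gl (LinearEquiv.ofInvolutive T hTT)
  obtain ⟨r, hr⟩ : ∃ r, r = h.act c' := ⟨_, rfl⟩
  have hrU : ∀ v ∈ U, r v = v + h.b w v • u := by
    intro v hv
    rw [hr]
    exact hc' ⟨v, hv⟩
  have hriso : ∀ v w, h.b (r v) (r w) = h.b v w := by rw [hr]; exact h.b_act c'
  have hrk : Keep h U W r := by
    rw [hr]
    rcases S.pres c' with h1 | h1
    · exact h1
    · exfalso
      obtain ⟨v, hv, hv0⟩ := exists_ne_zero S
      rw [← hr] at h1
      have h2 := h1.1 v hv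
      apply hv0
      have h3 : r v ∈ U := by rw [hrU v hv]; exact U.add_mem hv (U.smul_mem _ hu)
      exact r.map_eq_zero_iff.1 (S.lag.disj _ h3 h2)
  have hrrU : ∀ v ∈ U, r (r v) = v := by
    intro v hv
    have hru : r u = u := by rw [hrU u hu, h.b_comm w u, hb, zero_smul, add_zero]
    rw [hrU v hv, map_add, map_smul, hru, hrU v hv, add_assoc, h.add_self, add_zero]
  have hrW : ∀ v ∈ W, r v = v + h.b u v • w := by
    intro v hv
    apply eq_of_add h
    apply S.lag.eq_zero_W (W.add_mem (hrk.2 v hv) (W.add_mem hv (W.smul_mem _ hw)))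
    intro v' hv'
    have h2 : h.b (r v) v' = h.b v (r v') := by
      rw [← hriso v (r v'), hrrU v' hv']
    rw [map_add, LinearMap.add_apply, h2, hrU v' hv', map_add, map_add, LinearMap.add_apply, map_smul,
      map_smul, LinearMap.smul_apply, smul_eq_mul, smul_eq_mul, h.b_comm u v]
    have : ∀ a b c : ZMod 2, a + b * c + (a + c * b) = 0 := by decide
    exact this _ _ _
  refine ⟨c', ?_⟩
  rw [← hr]
  intro v
  obtain ⟨v₁, hv₁, v₂, hv₂, rfl⟩ := S.lag.span v
  rw [map_add, hrU v₁ hv₁, hrW v₂ hv₂, map_add, map_add, S.lag.bW hw hv₂, S.lag.bU hu hv₁, add_zero, zero_add]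
  abel

/-- The local situation at a vector `va = u + w`, `w = f u`. -/
structure Loc [Finite G] (S : Swap n h U W) (A : Subgroup G) (c : G) (u w : h.V) (f : h.V ≃ₗ[ZMod 2] h.V) where
  I : Inv h U W f
  hu : u ∈ U
  hu0 : u ≠ 0
  hw : w = f u
  hb : h.b u w = 0
  p : Pair Q z A c
  hf : f ∈ p.H
  hva : p.va = u + w

section local_

variable {A : Subgroup G} {c : G} {u w : h.V} {f : h.V ≃ₗ[ZMod 2] h.V}

theorem isoX (p : Pair Q z A c) {x : h.V ≃ₗ[ZMod 2] h.V} (hx : x ∈ p.X) (v v' : h.V) :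
    h.b (x v) (x v') = h.b v v' := by
  obtain ⟨c', -, rfl⟩ := p.mem_X.1 hx
  exact h.b_act c' v v'

theorem sqX (p : Pair Q z A c) {x : h.V ≃ₗ[ZMod 2] h.V} (hx : x ∈ p.X) (v : h.V) : x (x v) = v :=
  congrArg (fun t : h.V ≃ₗ[ZMod 2] h.V => t v) (p.X_sq hx)

theorem keep_or (S : Swap n h U W) (p : Pair Q z A c) {x : h.V ≃ₗ[ZMod 2] h.V} (hx : x ∈ p.X) :
    Keep h U W x ∨ Flip h U W x := by
  obtain ⟨c', -, rfl⟩ := p.mem_X.1 hx
  exact S.pres c'

variable [Finite G]

theorem Loc.hwW {S : Swap n h U W} (L : Loc S A c u w f) : w ∈ W := L.hw ▸ L.I.flip.1 u L.hu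

theorem Loc.hw0 {S : Swap n h U W} (L : Loc S A c u w f) : w ≠ 0 :=
  fun h0 => L.hu0 (L.I.f_inj (L.hw ▸ h0))

theorem Loc.hfw {S : Swap n h U W} (L : Loc S A c u w f) : f w = u := by rw [L.hw, L.I.inv]

theorem Loc.fva {S : Swap n h U W} (L : Loc S A c u w f) : f L.p.va = L.p.va := by
  rw [L.hva, map_add, ← L.hw, L.hfw, add_comm]

/-- elements of `X` preserving `U` fix `u` and `w` -/
theorem Loc.fix {S : Swap n h U W} (L : Loc S A c u w f) {x : h.V ≃ₗ[ZMod 2] h.V} (hx : x ∈ L.p.X)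
    (hk : Keep h U W x) : x u = u ∧ x w = w := by
  have h1 := L.p.X_va hx
  rw [L.hva, map_add] at h1
  exact S.lag.add_inj (hk.1 u L.hu) L.hu (hk.2 w L.hwW) L.hwW h1

/-- conjugation by `f` -/
theorem Loc.conj_f {S : Swap n h U W} (L : Loc S A c u w f) {x : h.V ≃ₗ[ZMod 2] h.V} (hx : x ∈ L.p.X) :
    f * x * f⁻¹ ∈ L.p.X := L.p.X_normal L.hf L.fva hx

theorem Loc.keep_conj_f {S : Swap n h U W} (L : Loc S A c u w f) {x : h.V ≃ₗ[ZMod 2] h.V}
    (hk : Keep h U W x) : Keep h U W (f * x * f⁻¹) := by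
  constructor
  · intro v hv
    show f (x (f⁻¹ v)) ∈ U
    rw [L.I.finv]
    exact L.I.flip.2 _ (hk.2 _ (L.I.flip.1 v hv))
  · intro v hv
    show f (x (f⁻¹ v)) ∈ W
    rw [L.I.finv]
    exact L.I.flip.1 _ (hk.1 _ (L.I.flip.2 v hv))

/-- transvections of `H` fixing `va`: conjugation preserves `X` -/
theorem Loc.conj_T {S : Swap n h U W} (L : Loc S A c u w f) {u' w' : h.V} (hu' : u' ∈ U) (hw' : w' ∈ W)
    (hb : h.b u' w' = 0) (h1 : h.b u w' = 0) (h2 : h.b u' w = 0) {x : h.V ≃ₗ[ZMod 2] h.V} (hx : x ∈ L.p.X) :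
    ∃ r : h.V ≃ₗ[ZMod 2] h.V, IsT h u' w' r ∧ (∀ v, r (r v) = v) ∧
      (∀ v w, h.b (r v) (r w) = h.b v w) ∧ r * x * r⁻¹ ∈ L.p.X := by
  obtain ⟨cr, hcr⟩ := exists_T S hu' hw' hb
  have hrr := hcr.sq hb (S.lag.bU hu' hu') (S.lag.bW hw' hw')
  refine ⟨h.act cr, hcr, hrr, h.b_act cr, ?_⟩
  apply L.p.X_normal ⟨cr, rfl⟩ _ hx
  rw [L.hva]
  show h.act cr (u + w) = u + w
  rw [hcr, map_add, map_add, h.b_comm w' u, h1, S.lag.bW hw' L.hwW, S.lag.bU hu' L.hu, h2, add_zero,
    zero_smul, zero_smul, add_zero, add_zero]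

/-- commutators: `T(u, y + x y) ∈ X` -/
theorem Loc.comm_T {S : Swap n h U W} (L : Loc S A c u w f) {x : h.V ≃ₗ[ZMod 2] h.V} (hx : x ∈ L.p.X)
    (hk : Keep h U W x) {y : h.V} (hy : y ∈ W) (hyu : h.b u y = 0) :
    ∃ t ∈ L.p.X, IsT h u (y + x y) t := by
  obtain ⟨r, hr, hrr, -, hrX⟩ := L.conj_T L.hu hy hyu hyu (by rw [h.b_comm, h.b_comm]; exact L.hb) hx
  refine ⟨r * x * r⁻¹ * x, L.p.X.mul_mem hrX hx, ?_⟩
  intro v
  have hrinv : ∀ v, r⁻¹ v = r v := by
    intro v
    show r.symm v = r v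
    rw [LinearEquiv.symm_apply_eq, hrr]
  have hxx := sqX L.p hx
  have hxi := isoX L.p hx
  obtain ⟨hxu, hxw⟩ := L.fix hx hk
  have hs : ∀ a b, h.b a (x b) = h.b (x a) b := fun a b => by rw [← hxi a (x b), hxx]
  have hxy : x y ∈ W := hk.2 y hy
  show r (x (r⁻¹ (x v))) = _
  rw [hrinv, hr (x v)]
  simp only [map_add, map_smul, hxx, hxu, LinearMap.add_apply]
  rw [hr v, hr u, hr (x y), hs y v, hs u v, hxu, hs u y, hxu, hyu, h.b_comm y u, hyu, S.lag.bU L.hu L.hu,
    S.lag.bW hy hxy]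
  simp only [zero_smul, add_zero, smul_add, add_smul]
  abel

end local_

/-- an isometry preserving `U`, `W` which is the transvection `T(u, w)` on `U` -/
theorem isT_of_U (S : Lag h U W) {u w : h.V} (hu : u ∈ U) (hw : w ∈ W) (hb : h.b u w = 0)
    {r : h.V ≃ₗ[ZMod 2] h.V} (hriso : ∀ v w, h.b (r v) (r w) = h.b v w) (hrk : Keep h U W r)
    (hrU : ∀ v ∈ U, r v = v + h.b w v • u) : IsT h u w r := by
  have hrrU : ∀ v ∈ U, r (r v) = v := by
    intro v hv
    have hru : r u = u := by rw [hrU u hu, h.b_comm w u, hb, zero_smul, add_zero]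
    rw [hrU v hv, map_add, map_smul, hru, hrU v hv, add_assoc, h.add_self, add_zero]
  have hrW : ∀ v ∈ W, r v = v + h.b u v • w := by
    intro v hv
    apply eq_of_add h
    apply S.eq_zero_W (W.add_mem (hrk.2 v hv) (W.add_mem hv (W.smul_mem _ hw)))
    intro v' hv'
    have h2 : h.b (r v) v' = h.b v (r v') := by
      rw [← hriso v (r v'), hrrU v' hv']
    rw [map_add, LinearMap.add_apply, h2, hrU v' hv', map_add, map_add, LinearMap.add_apply, map_smul,
      map_smul, LinearMap.smul_apply, smul_eq_mul, smul_eq_mul, h.b_comm u v]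
    have : ∀ a b c : ZMod 2, a + b * c + (a + c * b) = 0 := by decide
    exact this _ _ _
  intro v
  obtain ⟨v₁, hv₁, v₂, hv₂, rfl⟩ := S.span v
  rw [map_add, hrU v₁ hv₁, hrW v₂ hv₂, map_add, map_add, S.bW hw hv₂, S.bU hu hv₁, add_zero, zero_add]
  abel

/-- conjugates of transvections -/
theorem IsT_conj {a b' : h.V} {t k : h.V ≃ₗ[ZMod 2] h.V} (ht : IsT h a b' t)
    (hk : ∀ v w, h.b (k v) (k w) = h.b v w) : IsT h (k a) (k b') (k * t * k⁻¹) := by
  intro v
  obtain ⟨v', rfl⟩ := k.surjective v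
  show k (t (k⁻¹ (k v'))) = _
  have : k⁻¹ (k v') = v' := k.symm_apply_apply v'
  rw [this, ht v', map_add, map_add, map_smul, map_smul, hk, hk]

/-- an isometry preserving `U`, `W` and fixing `U ∩ w^⊥` and `W ∩ u^⊥` is `1` or `T(u, w)` -/
theorem one_or_T (S : Lag h U W) {u w : h.V} (hu : u ∈ U) (hw : w ∈ W) (hw0 : w ≠ 0) (hb : h.b u w = 0)
    {x : h.V ≃ₗ[ZMod 2] h.V} (hxi : ∀ v w, h.b (x v) (x w) = h.b v w) (hk : Keep h U W x)
    (h1 : ∀ v ∈ U, h.b w v = 0 → x v = v) (h2 : ∀ v ∈ W, h.b u v = 0 → x v = v) :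
    x = 1 ∨ IsT h u w x := by
  obtain ⟨v₁, hv₁, hv₁1⟩ := S.exists_one hw hw0
  obtain ⟨d, hd⟩ : ∃ d, d = x v₁ + v₁ := ⟨_, rfl⟩
  have hxv₁ : x v₁ = v₁ + d := by
    rw [hd]
    calc x v₁ = (v₁ + v₁) + x v₁ := by rw [h.add_self, zero_add]
      _ = _ := by abel
  have hdU : d ∈ U := hd ▸ U.add_mem (hk.1 _ hv₁) hv₁
  have hrest : ∀ v ∈ U, x v = v + h.b w v • d := by
    intro v hv
    rcases zmod_two (h.b w v) with h3 | h3
    · rw [h3, zero_smul, add_zero]; exact h1 v hv h3
    · rw [h3, one_smul]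
      have h4 := h1 (v + v₁) (U.add_mem hv hv₁) (by rw [map_add, h3, hv₁1]; decide)
      rw [map_add, hxv₁] at h4
      calc x v = x v + (v₁ + d) + (v₁ + d) := by rw [add_assoc, h.add_self, add_zero]
        _ = v + v₁ + (v₁ + d) := by rw [h4]
        _ = v + d + (v₁ + v₁) := by abel
        _ = v + d := by rw [h.add_self, add_zero]
  have key : ∀ y, h.b u y = 0 → h.b d y = 0 := by
    intro y hy
    obtain ⟨y₁, hy₁, y₂, hy₂, rfl⟩ := S.span y
    rw [map_add, S.bU hu hy₁, zero_add] at hy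
    rw [map_add, S.bU hdU hy₁, zero_add]
    have h3 := hxi v₁ y₂
    rw [h2 y₂ hy₂ hy, hxv₁, map_add, LinearMap.add_apply] at h3
    exact add_eq_left.1 h3
  rcases eq_of_perp h key with h3 | h3
  · left
    apply S.eq_one hxi hk
    intro v hv
    rw [hrest v hv, h3, smul_zero, add_zero]
  · right
    rw [h3] at hrest
    exact isT_of_U S hu hw hb hxi hk hrest

section local2

variable [Finite G] {A : Subgroup G} {c : G} {u w : h.V} {f : h.V ≃ₗ[ZMod 2] h.V}

/-- commuting transvections in `X` -/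
theorem Loc.comm_TT {S : Swap n h U W} (L : Loc S A c u w f) {y v'' : h.V} (hv'' : v'' ∈ U)
    {t t'' : h.V ≃ₗ[ZMod 2] h.V} (ht : t ∈ L.p.X) (ht'' : t'' ∈ L.p.X) (hT : IsT h u y t)
    (hT'' : IsT h v'' w t'') : h.b y v'' = 0 := by
  obtain ⟨v, hv, hv1⟩ := S.lag.exists_one L.hwW L.hw0
  have h1 := congrArg (fun t : h.V ≃ₗ[ZMod 2] h.V => t v) (L.p.X_comm ht ht'')
  have h2 : t (t'' v) = t'' (t v) := h1
  have hbu : ∀ {a b : h.V}, a ∈ U → b ∈ U → h.b a b = 0 := fun ha hb => S.lag.bU ha hb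
  rw [hT'' v, hv1, hbu hv'' hv, one_smul, zero_smul, add_zero, hT (v + v''), hT v, map_add, map_add,
    hbu L.hu hv, hbu L.hu hv'', add_zero, zero_smul, add_zero, add_zero, hT'' (v + h.b y v • u), map_add,
    map_add, map_smul, map_smul, hv1, h.b_comm w u, L.hb, hbu hv'' hv, hbu hv'' L.hu, smul_zero, add_zero,
    add_zero, one_smul, zero_smul, add_zero, add_smul] at h2
  have h3 : h.b y v'' • u = 0 := by
    have e : v + v'' + (h.b y v • u + h.b y v'' • u) = (v + h.b y v • u + v'') + h.b y v'' • u := by abel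
    rw [e] at h2
    exact add_eq_left.1 h2
  rcases smul_eq_zero.1 h3 with h4 | h4
  · exact h4
  · exact absurd h4 L.hu0

theorem Loc.T_mem {S : Swap n h U W} (L : Loc S A c u w f) {y : h.V} (hy : y ∈ W) (hyu : h.b u y = 0)
    {t : h.V ≃ₗ[ZMod 2] h.V} (ht : t ∈ L.p.X) (hT : IsT h u y t) : y = 0 ∨ y = w := by
  by_contra hcon
  push Not at hcon
  obtain ⟨hy0, hyw⟩ := hcon
  have hv' : f y ∈ U := L.I.flip.2 y hy
  have ht' := L.conj_f ht
  have hT' : IsT h (f y) w (f * t * f⁻¹) := by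
    have := (IsT_conj hT L.I.iso).symm
    rwa [← L.hw] at this
  have h1 : h.b y (f y) = 0 := L.comm_TT hv' ht ht' hT hT'
  obtain ⟨e, he, hew, hey⟩ := S.lag.sep L.hwW hy hy0 hyw
  obtain ⟨k, hk, hku, hke, hkv⟩ := S.lag.sep3 L.hu he hv' (fun h0 => hy0 (L.I.f_inj h0))
    (fun h0 => hyw (by rw [L.hw, ← h0, L.I.inv]))
    (fun h0 => by rw [h0, hey] at h1; exact absurd h1 (by decide))
    (fun h0 => by
      rw [h0, map_add, h.b_comm y u, hyu, hey] at h1; exact absurd h1 (by decide))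
  obtain ⟨r, hr, hrr, hriso, hrX⟩ := L.conj_T he hk hke hku (by rw [h.b_comm]; exact hew) ht'
  have hri : ∀ v w, h.b (r v) (r w) = h.b v w := hriso
  have hT'' := IsT_conj hT' hri
  have hrw : r w = w := by
    rw [hr w, S.lag.bW hk L.hwW, h.b_comm e w, hew, zero_smul, zero_smul, add_zero, add_zero]
  have hrv : r (f y) = f y + e := by
    rw [hr (f y), h.b_comm k, hkv, S.lag.bU he hv', one_smul, zero_smul, add_zero]
  rw [hrw, hrv] at hT''
  have h2 := L.comm_TT (U.add_mem hv' he) ht hrX hT hT''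
  rw [map_add, h1, hey] at h2
  exact absurd h2 (by decide)

/-- elements of `X` preserving `U`: action on `W ∩ u^⊥` -/
theorem Loc.act_W {S : Swap n h U W} (L : Loc S A c u w f) {x : h.V ≃ₗ[ZMod 2] h.V} (hx : x ∈ L.p.X)
    (hk : Keep h U W x) {y : h.V} (hy : y ∈ W) (hyu : h.b u y = 0) : x y = y ∨ x y = y + w := by
  obtain ⟨t, ht, hT⟩ := L.comm_T hx hk hy hyu
  have h1 : h.b u (x y) = 0 := by
    have := isoX L.p hx u y
    rwa [(L.fix hx hk).1, hyu] at this
  rcases L.T_mem (W.add_mem hy (hk.2 y hy)) (by rw [map_add, hyu, h1, add_zero]) ht hT with h2 | h2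
  · left; exact (eq_of_add h h2).symm
  · right
    rw [← h2, ← add_assoc, h.add_self, zero_add]

theorem Loc.act_U {S : Swap n h U W} (L : Loc S A c u w f) {x : h.V ≃ₗ[ZMod 2] h.V} (hx : x ∈ L.p.X)
    (hk : Keep h U W x) {v : h.V} (hv : v ∈ U) (hvw : h.b w v = 0) : x v = v ∨ x v = v + u := by
  have h1 := L.act_W (L.conj_f hx) (L.keep_conj_f hk) (L.I.flip.1 v hv) (by
    rw [L.I.shift, ← L.hw]; exact hvw)
  have h2 : (f * x * f⁻¹) (f v) = f (x v) := by
    show f (x (f⁻¹ (f v))) = f (x v)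
    rw [L.I.finv, L.I.inv]
  rw [h2] at h1
  rcases h1 with h3 | h3
  · left; exact f.injective h3
  · right
    rw [L.hw, ← map_add] at h3
    exact f.injective h3

theorem Loc.u_mem_D {S : Swap n h U W} (L : Loc S A c u w f) (hw : w ∈ L.p.D) : u ∈ L.p.D := by
  have h1 := L.p.D.add_mem L.p.va_mem_D hw
  rw [L.hva] at h1
  have : u + w + w = u := by rw [add_assoc, h.add_self, add_zero]
  rwa [this] at h1

/-- if `X` contains an element preserving `U`, different from `1`, `T(u, w)`, then `T(u, w) ∈ X` and `u, w ∈ D` -/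
theorem Loc.tau_mem {S : Swap n h U W} (L : Loc S A c u w f) {x : h.V ≃ₗ[ZMod 2] h.V} (hx : x ∈ L.p.X)
    (hk : Keep h U W x) (hx1 : x ≠ 1) (hxT : ¬ IsT h u w x) :
    (∃ t ∈ L.p.X, IsT h u w t) ∧ w ∈ L.p.D := by
  have key : ∀ {x : h.V ≃ₗ[ZMod 2] h.V} (_ : x ∈ L.p.X) (_ : Keep h U W x) {y : h.V} (_ : y ∈ W)
      (_ : h.b u y = 0) (_ : x y = y + w), (∃ t ∈ L.p.X, IsT h u w t) ∧ w ∈ L.p.D := by
    intro x hx hk y hy hyu hxy
    have e : y + x y = w := by rw [hxy, ← add_assoc, h.add_self, zero_add]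
    constructor
    · obtain ⟨t, ht, hT⟩ := L.comm_T hx hk hy hyu
      rw [e] at hT
      exact ⟨t, ht, hT⟩
    · have h1 := L.p.X_perp hx (v := y) (by
        rw [L.hva]
        show h.b (u + w) y = 0
        rw [map_add, LinearMap.add_apply, hyu, S.lag.bW L.hwW hy, add_zero])
      have h2 : x y + y = w := by rw [add_comm]; exact e
      rw [h2] at h1
      exact h1
  by_cases h1 : ∃ y ∈ W, h.b u y = 0 ∧ x y = y + w
  · obtain ⟨y, hy, hyu, hxy⟩ := h1
    exact key hx hk hy hyu hxy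
  by_cases h2 : ∃ v ∈ U, h.b w v = 0 ∧ x v = v + u
  · obtain ⟨v, hv, hvw, hxv⟩ := h2
    refine key (L.conj_f hx) (L.keep_conj_f hk) (L.I.flip.1 v hv) (by
      rw [L.I.shift, ← L.hw]; exact hvw) ?_
    show f (x (f⁻¹ (f v))) = f v + w
    rw [L.I.finv, L.I.inv, hxv, map_add, ← L.hw]
  push Not at h1 h2
  exfalso
  rcases one_or_T S.lag L.hu L.hwW L.hw0 L.hb (isoX L.p hx) hk
    (fun v hv hvw => (L.act_U hx hk hv hvw).resolve_right (h2 v hv hvw))
    (fun v hv hvu => (L.act_W hx hk hv hvu).resolve_right (h1 v hv hvu)) with h3 | h3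
  · exact hx1 h3
  · exact hxT h3

end local2

end Cfsg.Agent.LargeExtra.WideIrr.FPair

end

section


/-!
# `H = L_n(2).2` on `n ⊕ n*`, `n ≥ 4`: the vectors `u + f u` do not come from conjugates of `z` (helper754)

helper805's `FlipCount` (`n = 4`) with the width as a parameter.
-/

set_option autoImplicit false
set_option linter.style.haveILetI false

namespace Cfsg.Agent.LargeExtra.WideIrr.FCount

open Cfsg.Agent.Co2Type.Quad Cfsg.Agent.LargeExtra.Base Cfsg.Agent.LargeExtra.TwoCentral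
open Cfsg.Agent.LargeExtra.SwapBasic (eq_of_add Keep Flip)
open Cfsg.Agent.LargeExtra.PGLKill (flip_mul flip_mul_keep keep_mul_flip keep_mul)
open Cfsg.Agent.LargeExtra.FlipBasic Cfsg.Agent.LargeExtra.WideIrr.FPair
open Module

variable {G : Type*} [Group G] {Q : Subgroup G} {z : G}
variable {n : ℕ} {h : Large Q z} {U W : Submodule (ZMod 2) h.V}
variable [Finite G] {A : Subgroup G} {c : G} {u w : h.V} {f : h.V ≃ₗ[ZMod 2] h.V}

/-- the elements of `X` preserving `U` and `W` -/
def X0 {S : Swap n h U W} (L : Loc S A c u w f) : Subgroup (h.V ≃ₗ[ZMod 2] h.V) where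
  carrier := {x | x ∈ L.p.X ∧ Keep h U W x}
  one_mem' := ⟨L.p.X.one_mem, fun _ hv => hv, fun _ hv => hv⟩
  mul_mem' := fun ha hb => ⟨L.p.X.mul_mem ha.1 hb.1, keep_mul ha.2 hb.2⟩
  inv_mem' := by
    rintro x ⟨hx, hk⟩
    have h1 : x⁻¹ = x := by rw [inv_eq_iff_mul_eq_one]; exact L.p.X_sq hx
    rw [h1]; exact ⟨hx, hk⟩

theorem finX {S : Swap n h U W} (L : Loc S A c u w f) : Finite L.p.X := by
  apply Nat.finite_of_card_ne_zero
  have h1 := L.p.card_X
  have h2 : Nat.card L.p.lz.V = 2 ^ (2 * n) := cardV S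
  rw [h2] at h1
  intro h3
  rw [h3] at h1
  have h4 : 0 < 2 ^ (2 * n) := by positivity
  omega

theorem finX0 {S : Swap n h U W} (L : Loc S A c u w f) : Finite (X0 L) := by
  have := finX L
  exact Finite.of_injective (fun x : X0 L => (⟨x, x.2.1⟩ : L.p.X))
    (fun x y hxy => Subtype.ext (congrArg (fun t : L.p.X => (t : h.V ≃ₗ[ZMod 2] h.V)) hxy))

omit [Finite G] in
theorem finV (S : Swap n h U W) : Finite h.V := by
  apply Nat.finite_of_card_ne_zero
  rw [cardV S]; positivity

/-- `|X| ≤ 2 |X₀|` -/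
theorem card_X_le {S : Swap n h U W} (L : Loc S A c u w f) : Nat.card L.p.X ≤ 2 * Nat.card (X0 L) := by
  classical
  have := finX0 L
  by_cases hσ : ∃ σ ∈ L.p.X, Flip h U W σ
  · obtain ⟨σ, hσX, hσ⟩ := hσ
    let g : L.p.X → X0 L × Bool := fun x =>
      if hk : Keep h U W (x : h.V ≃ₗ[ZMod 2] h.V) then (⟨x, x.2, hk⟩, true)
      else (⟨σ * x, L.p.X.mul_mem hσX x.2, flip_mul hσ ((keep_or S L.p x.2).resolve_left hk)⟩, false)
    have hg : Function.Injective g := by
      intro x y hxy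
      by_cases hx : Keep h U W (x : h.V ≃ₗ[ZMod 2] h.V) <;> by_cases hy : Keep h U W (y : h.V ≃ₗ[ZMod 2] h.V)
      · simp only [g, dif_pos hx, dif_pos hy, Prod.mk.injEq, and_true] at hxy
        exact Subtype.ext (congrArg (fun t : X0 L => (t : h.V ≃ₗ[ZMod 2] h.V)) hxy)
      · simp only [g, dif_pos hx, dif_neg hy, Prod.mk.injEq, Bool.true_eq_false, and_false] at hxy
      · simp only [g, dif_neg hx, dif_pos hy, Prod.mk.injEq, Bool.false_eq_true, and_false] at hxy
      · simp only [g, dif_neg hx, dif_neg hy, Prod.mk.injEq, and_true] at hxy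
        exact Subtype.ext (mul_left_cancel (congrArg (fun t : X0 L => (t : h.V ≃ₗ[ZMod 2] h.V)) hxy))
    have h1 := Nat.card_le_card_of_injective g hg
    rw [Nat.card_prod, Nat.card_eq_fintype_card (α := Bool), Fintype.card_bool] at h1
    omega
  · push Not at hσ
    have h1 := Nat.card_le_card_of_injective (fun x : L.p.X =>
      (⟨x, x.2, (keep_or S L.p x.2).resolve_right (hσ x x.2)⟩ : X0 L))
      (fun x y hxy => Subtype.ext (congrArg (fun t : X0 L => (t : h.V ≃ₗ[ZMod 2] h.V)) hxy))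
    have h2 : 0 < Nat.card (X0 L) := Nat.card_pos
    omega

/-- `X₀` contains an element different from `1` and `T(u, w)` -/
theorem exists_X0 {S : Swap n h U W} (L : Loc S A c u w f) :
    ∃ x ∈ L.p.X, Keep h U W x ∧ x ≠ 1 ∧ ¬ IsT h u w x := by
  classical
  by_contra hcon
  push Not at hcon
  have h1 := card_X_le L
  have h2 : Nat.card (X0 L) ≤ 2 := by
    have hinj : Function.Injective (fun x : X0 L => decide ((x : h.V ≃ₗ[ZMod 2] h.V) = 1)) := by
      intro a b hab
      have hab' : decide ((a : h.V ≃ₗ[ZMod 2] h.V) = 1) = decide ((b : h.V ≃ₗ[ZMod 2] h.V) = 1) := hab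
      by_cases ha : (a : h.V ≃ₗ[ZMod 2] h.V) = 1
      · rw [decide_eq_true ha] at hab'
        have hb' := of_decide_eq_true hab'.symm
        exact Subtype.ext (ha.trans hb'.symm)
      · rw [decide_eq_false ha] at hab'
        have hb' := of_decide_eq_false hab'.symm
        exact Subtype.ext ((hcon a a.2.1 a.2.2 ha).ext (hcon b b.2.1 b.2.2 hb'))
    have := Nat.card_le_card_of_injective _ hinj
    rwa [Nat.card_eq_fintype_card (α := Bool), Fintype.card_bool] at this
  have h3 := L.p.card_X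
  have h4 : Nat.card L.p.lz.V = 2 ^ (2 * n) := cardV S
  have := finV S
  have h5 : Nat.card L.p.D * Nat.card L.p.D ≤ Nat.card L.p.lz.V := by
    have := S.lag.finQ
    have := Cfsg.Agent.LargeExtra.Perp.card_sq_le L.p.lz L.p.D (fun v hv w hw => L.p.b_D hv hw)
    simpa [pow_two] using this
  have h10 := pow_pos' S
  have e : 2 ^ (2 * n) = 2 ^ n * 2 ^ n := by rw [two_mul, pow_add]
  rw [h4, e] at h3 h5
  have h6 : Nat.card L.p.D ≤ 2 ^ n := by
    by_contra h9
    have h9' : 2 ^ n < Nat.card L.p.D := not_le.1 h9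
    have := Nat.mul_lt_mul_of_lt_of_le h9' h9'.le (by omega)
    omega
  have h7 : Nat.card L.p.X ≤ 4 := by omega
  have h8 := Nat.mul_le_mul h7 h6
  have h9 := Nat.mul_le_mul_right (2 ^ n) h10
  generalize 2 ^ n = N at *
  nlinarith

/-- `2 |X₀| ≤ |D|` -/
theorem card_X0_le {S : Swap n h U W} (L : Loc S A c u w f) {τ : h.V ≃ₗ[ZMod 2] h.V}
    (hT : IsT h u w τ) (hwD : w ∈ L.p.D) : Nat.card (X0 L) * 2 ≤ Nat.card L.p.D := by
  classical
  have := finV S
  have huD := L.u_mem_D hwD
  -- `τ` is trivial on `D`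
  have hτD : ∀ d ∈ L.p.D, τ d = d := by
    intro d hd
    have h1 : h.b w d = 0 := L.p.b_D hwD hd
    have h2 : h.b u d = 0 := L.p.b_D huD hd
    rw [hT d, h1, h2, zero_smul, zero_smul, add_zero, add_zero]
  obtain ⟨v₁, hv₁, hv₁1⟩ := S.lag.exists_one L.hwW L.hw0
  obtain ⟨y₁, hy₁, hy₁1⟩ := S.lag.symm.exists_one L.hu L.hu0
  obtain ⟨m, hm⟩ : ∃ m, m = v₁ + y₁ := ⟨_, rfl⟩
  have hΦ : ∀ x ∈ L.p.X, x m + m ∈ L.p.D := by
    intro x hx
    apply L.p.X_perp hx
    rw [L.hva, hm]
    show h.b (u + w) (v₁ + y₁) = 0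
    rw [map_add, map_add, LinearMap.add_apply, LinearMap.add_apply, S.lag.bU L.hu hv₁, hv₁1, hy₁1,
      S.lag.bW L.hwW hy₁]
    decide
  -- elements of `X₀` moving `m` by an element of `⟨u, w⟩`
  have hker : ∀ x ∈ L.p.X, Keep h U W x → (x m + m = 0 ∨ x m + m = u ∨ x m + m = w ∨ x m + m = u + w) →
      x = 1 ∨ IsT h u w x := by
    intro x hx hk hxm
    have hxv : x v₁ + v₁ ∈ U := U.add_mem (hk.1 _ hv₁) hv₁
    have hxy : x y₁ + y₁ ∈ W := W.add_mem (hk.2 _ hy₁) hy₁
    have e : x m + m = (x v₁ + v₁) + (x y₁ + y₁) := by rw [hm, map_add]; abel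
    rw [e] at hxm
    have hcases : (x v₁ = v₁ ∨ x v₁ = v₁ + u) ∧ (x y₁ = y₁ ∨ x y₁ = y₁ + w) := by
      have hback : ∀ a b : h.V, a + b = 0 → a = b := fun a b => eq_of_add h
      have hsolve : ∀ a b d : h.V, a + b = d → a = b + d := by
        intro a b d hab
        rw [← hab]
        calc a = a + (b + b) := by rw [h.add_self, add_zero]
          _ = b + (a + b) := by abel
      rcases hxm with h1 | h1 | h1 | h1
      · have h2 := S.lag.add_inj hxv U.zero_mem hxy W.zero_mem (by rw [h1, add_zero])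
        exact ⟨Or.inl (hback _ _ h2.1), Or.inl (hback _ _ h2.2)⟩
      · have h2 := S.lag.add_inj hxv L.hu hxy W.zero_mem (by rw [h1, add_zero])
        exact ⟨Or.inr (hsolve _ _ _ h2.1), Or.inl (hback _ _ h2.2)⟩
      · have h2 := S.lag.add_inj hxv U.zero_mem hxy L.hwW (by rw [h1, zero_add])
        exact ⟨Or.inl (hback _ _ h2.1), Or.inr (hsolve _ _ _ h2.2)⟩
      · have h2 := S.lag.add_inj hxv L.hu hxy L.hwW h1
        exact ⟨Or.inr (hsolve _ _ _ h2.1), Or.inr (hsolve _ _ _ h2.2)⟩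
    have hxi := isoX L.p hx
    apply one_or_T S.lag L.hu L.hwW L.hw0 L.hb hxi hk
    · intro v hv hvw
      rcases L.act_U hx hk hv hvw with h1 | h1
      · exact h1
      · exfalso
        have h2 := hxi v y₁
        have h3 : h.b v w = 0 := by rw [h.b_comm]; exact hvw
        rcases hcases.2 with h4 | h4 <;> rw [h1, h4] at h2 <;>
          simp only [map_add, LinearMap.add_apply, hy₁1, h3, L.hb, add_zero] at h2 <;>
          exact absurd (add_eq_left.1 h2) (by decide)
    · intro v hv hvu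
      rcases L.act_W hx hk hv hvu with h1 | h1
      · exact h1
      · exfalso
        have h2 := hxi v v₁
        have h3 : h.b v u = 0 := by rw [h.b_comm]; exact hvu
        have h5 : h.b w u = 0 := by rw [h.b_comm]; exact L.hb
        rcases hcases.1 with h4 | h4 <;> rw [h1, h4] at h2 <;>
          simp only [map_add, LinearMap.add_apply, hv₁1, h3, h5, add_zero] at h2 <;>
          exact absurd (add_eq_left.1 h2) (by decide)
  have huw0 : u + w ≠ 0 := by
    intro h0
    exact L.hu0 (S.lag.disj u L.hu (eq_of_add h h0 ▸ L.hwW))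
  -- the injection
  let ε : Bool → h.V := fun b => if b then u else 0
  have hεD : ∀ b, ε b ∈ L.p.D := by
    intro b
    cases b
    · exact L.p.D.zero_mem
    · exact huD
  let g : X0 L × Bool → L.p.D := fun a => ⟨(a.1 : h.V ≃ₗ[ZMod 2] h.V) m + m + ε a.2,
    L.p.D.add_mem (hΦ _ a.1.2.1) (hεD _)⟩
  have hg : Function.Injective g := by
    rintro ⟨⟨x, hx, hkx⟩, a⟩ ⟨⟨y, hy, hky⟩, b⟩ hab
    have h1 : x m + m + ε a = y m + m + ε b := congrArg Subtype.val hab
    obtain ⟨δ, hδ⟩ : ∃ δ, δ = y m + m := ⟨_, rfl⟩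
    have hδD : δ ∈ L.p.D := hδ ▸ hΦ y hy
    have hym : y m = m + δ := by
      rw [hδ]
      calc y m = y m + (m + m) := by rw [h.add_self, add_zero]
        _ = m + (y m + m) := by abel
    have hxm : x m + m = δ + (ε a + ε b) := by
      rw [hδ]
      calc x m + m = x m + m + ε a + ε a := by rw [add_assoc _ (ε a), h.add_self, add_zero]
        _ = y m + m + (ε a + ε b) := by rw [h1]; abel
    have hεε : ε a + ε b = 0 ∨ ε a + ε b = u := by
      cases a <;> cases b
      · left; show (0 : h.V) + 0 = 0; rw [add_zero]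
      · right; show (0 : h.V) + u = u; rw [zero_add]
      · right; show u + (0 : h.V) = u; rw [add_zero]
      · left; show u + u = 0; exact h.add_self u
    have hxδ : x δ = δ ∨ x δ = δ + (u + w) := by
      have := L.p.X_D hx hδD
      rwa [L.hva] at this
    have hxy : (x * y) m + m = (ε a + ε b) ∨ (x * y) m + m = (ε a + ε b) + (u + w) := by
      have e1 : (x * y) m = x m + x δ := by
        show x (y m) = _
        rw [hym, map_add]
      rcases hxδ with h2 | h2
      · left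
        calc (x * y) m + m = (x m + m) + x δ := by rw [e1]; abel
          _ = (ε a + ε b) + (δ + δ) := by rw [hxm, h2]; abel
          _ = _ := by rw [h.add_self, add_zero]
      · right
        calc (x * y) m + m = (x m + m) + x δ := by rw [e1]; abel
          _ = (ε a + ε b) + (u + w) + (δ + δ) := by rw [hxm, h2]; abel
          _ = _ := by rw [h.add_self, add_zero]
    have hmem : (x * y) m + m = 0 ∨ (x * y) m + m = u ∨ (x * y) m + m = w ∨ (x * y) m + m = u + w := by
      have e2 : u + (u + w) = w := by rw [← add_assoc, h.add_self, zero_add]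
      rcases hxy with h2 | h2 <;> rcases hεε with h3 | h3 <;> rw [h3] at h2
      · exact Or.inl h2
      · exact Or.inr (Or.inl h2)
      · rw [zero_add] at h2; exact Or.inr (Or.inr (Or.inr h2))
      · rw [e2] at h2; exact Or.inr (Or.inr (Or.inl h2))
    have hyy : y * y = 1 := L.p.X_sq hy
    rcases hker _ (L.p.X.mul_mem hx hy) (keep_mul hkx hky) hmem with h4 | h4
    · have hxy' : x = y := by
        calc x = x * (y * y) := by rw [hyy, mul_one]
          _ = y := by rw [← mul_assoc, h4, one_mul]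
      subst hxy'
      have h5 : ε a = ε b := add_left_cancel h1
      have hab' : a = b := by
        cases a <;> cases b
        · rfl
        · exact absurd h5.symm L.hu0
        · exact absurd h5 L.hu0
        · rfl
      rw [hab']
    · exfalso
      have h5 : x * y = τ := h4.ext hT
      have h6 : x = τ * y := by
        calc x = x * (y * y) := by rw [hyy, mul_one]
          _ = τ * y := by rw [← mul_assoc, h5]
      have h7 : x m = m + (u + w) + δ := by
        rw [h6]
        show τ (y m) = _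
        rw [hym, map_add, hτD δ hδD, hT m, hm, map_add, map_add, hv₁1, S.lag.bW L.hwW hy₁, S.lag.bU L.hu hv₁,
          hy₁1, add_zero, zero_add, one_smul, one_smul]
        abel
      have h8 : (u + w) + δ = δ + (ε a + ε b) := by
        rw [← hxm, h7]
        calc (u + w) + δ = (u + w) + δ + (m + m) := by rw [h.add_self, add_zero]
          _ = m + (u + w) + δ + m := by abel
      have h9 : u + w = ε a + ε b := by
        rw [add_comm δ] at h8
        exact add_right_cancel h8
      rcases hεε with h10 | h10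
      · exact huw0 (h9.trans h10)
      · have := h9.trans h10
        exact L.hw0 (add_eq_left.1 this)
  have hfin : Finite L.p.D := inferInstance
  have h1 := Nat.card_le_card_of_injective g hg
  rw [Nat.card_prod, Nat.card_eq_fintype_card (α := Bool), Fintype.card_bool] at h1
  exact h1

/-- `|D| ≤ |X|` if `X` contains an element `τ ≠ 1` trivial on `D` -/
theorem card_D_le {S : Swap n h U W} (L : Loc S A c u w f) {τ : h.V ≃ₗ[ZMod 2] h.V} (hτ : τ ∈ L.p.X)
    (hτ1 : τ ≠ 1) (hτD : ∀ d ∈ L.p.D, τ d = d) : Nat.card L.p.D ≤ Nat.card L.p.X := by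
  classical
  have := finV S
  have hfV : Finite L.p.lz.V := finV S
  have := finX L
  have : Module.Finite (ZMod 2) L.p.D := Module.Finite.of_finite
  let va : L.p.D := ⟨L.p.va, L.p.va_mem_D⟩
  have hva0 : va ≠ 0 := fun h0 => L.p.va_ne (congrArg Subtype.val h0)
  -- functionals on `D` vanishing on `va`
  let ev : Module.Dual (ZMod 2) L.p.D →ₗ[ZMod 2] ZMod 2 := Module.Dual.eval (ZMod 2) L.p.D va
  have hev : ∀ ψ, ev ψ = ψ va := fun ψ => rfl
  have hex : ∀ ψ : LinearMap.ker ev, ∃ x ∈ L.p.X, ∀ v : L.p.D, x v = (v : h.V) + (ψ : Module.Dual (ZMod 2) L.p.D) v • L.p.va := by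
    intro ψ
    obtain ⟨φ, hφ⟩ := LinearMap.exists_extend (ψ : Module.Dual (ZMod 2) L.p.D)
    have hφ' : ∀ v : L.p.D, φ v = (ψ : Module.Dual (ZMod 2) L.p.D) v := by
      intro v; rw [← hφ]; rfl
    obtain ⟨x, hx, hxv⟩ := L.p.exists_X φ (by
      have h1 := hφ' va
      have h2 : ev (ψ : Module.Dual (ZMod 2) L.p.D) = 0 := ψ.2
      rw [hev] at h2
      rw [h2] at h1
      exact h1)
    exact ⟨x, hx, fun v => by rw [← hφ' v]; exact hxv v v.2⟩
  choose F hFX hF using hex
  let g : LinearMap.ker ev × Bool → L.p.X := fun a =>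
    if a.2 then ⟨F a.1, hFX a.1⟩ else ⟨F a.1 * τ, L.p.X.mul_mem (hFX a.1) hτ⟩
  have hgD : ∀ a, ∀ v : L.p.D, ((g a : L.p.X) : h.V ≃ₗ[ZMod 2] h.V) v =
      (v : h.V) + ((a.1 : LinearMap.ker ev) : Module.Dual (ZMod 2) L.p.D) v • L.p.va := by
    rintro ⟨ψ, b⟩ v
    cases b
    · show (F ψ * τ) (v : h.V) = _
      have : (F ψ * τ) (v : h.V) = F ψ (τ v) := rfl
      rw [this, hτD v v.2]
      exact hF ψ v
    · exact hF ψ v
  have hg : Function.Injective g := by
    rintro ⟨ψ, a⟩ ⟨χ, b⟩ hab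
    have h1 : ψ = χ := by
      apply Subtype.ext
      ext v
      have h2 := hgD (ψ, a) v
      have h3 := hgD (χ, b) v
      rw [hab, h3] at h2
      have h4 := add_left_cancel h2
      have h5 : ((χ : Module.Dual (ZMod 2) L.p.D) v - (ψ : Module.Dual (ZMod 2) L.p.D) v) • L.p.va = 0 := by
        rw [sub_smul, sub_eq_zero]; exact h4
      rcases smul_eq_zero.1 h5 with h6 | h6
      · exact (sub_eq_zero.1 h6).symm
      · exact absurd h6 L.p.va_ne
    subst h1
    cases a <;> cases b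
    · rfl
    · exfalso
      have h2 : F ψ * τ = F ψ := congrArg (fun t : L.p.X => (t : h.V ≃ₗ[ZMod 2] h.V)) hab
      exact hτ1 (mul_eq_left.1 h2)
    · exfalso
      have h2 : F ψ = F ψ * τ := congrArg (fun t : L.p.X => (t : h.V ≃ₗ[ZMod 2] h.V)) hab
      exact hτ1 (mul_eq_left.1 h2.symm)
    · rfl
  have h1 := Nat.card_le_card_of_injective g hg
  rw [Nat.card_prod, Nat.card_eq_fintype_card (α := Bool), Fintype.card_bool] at h1
  -- `|ker ev| * 2 = |D|`
  have h2 := LinearMap.finrank_range_add_finrank_ker ev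
  have h3 : LinearMap.range ev = ⊤ := by
    rw [LinearMap.range_eq_top]
    apply LinearMap.surjective
    intro h0
    apply hva0
    rw [← Module.forall_dual_apply_eq_zero_iff (ZMod 2)]
    intro ψ
    rw [← hev, h0]; rfl
  rw [h3, finrank_top, finrank_self, Subspace.dual_finrank_eq] at h2
  have h4 : Nat.card L.p.D = Nat.card (LinearMap.ker ev) * 2 := by
    rw [Module.natCard_eq_pow_finrank (K := ZMod 2) (V := L.p.D),
      Module.natCard_eq_pow_finrank (K := ZMod 2) (V := LinearMap.ker ev), Nat.card_zmod, ← h2, pow_add]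
    ring
  omega

theorem loc_false {S : Swap n h U W} (L : Loc S A c u w f) : False := by
  obtain ⟨x, hx, hk, hx1, hxT⟩ := exists_X0 L
  obtain ⟨⟨τ, hτ, hT⟩, hwD⟩ := L.tau_mem hx hk hx1 hxT
  have huD := L.u_mem_D hwD
  have hτD : ∀ d ∈ L.p.D, τ d = d := by
    intro d hd
    have h1 : h.b w d = 0 := L.p.b_D hwD hd
    have h2 : h.b u d = 0 := L.p.b_D huD hd
    rw [hT d, h1, h2, zero_smul, zero_smul, add_zero, add_zero]
  have hτ1 : τ ≠ 1 := by
    intro h0
    obtain ⟨v, hv, hv1⟩ := S.lag.exists_one L.hwW L.hw0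
    have h1 := hT v
    rw [h0, hv1, S.lag.bU L.hu hv, one_smul, zero_smul, add_zero] at h1
    have h2 : v = v + u := h1
    exact L.hu0 (add_eq_left.1 h2.symm)
  have h1 := card_X_le L
  have h2 := card_X0_le L hT hwD
  have h3 := card_D_le L hτ hτ1 hτD
  have h4 : Nat.card L.p.X = Nat.card L.p.D := by omega
  have h5 := L.p.card_X
  have h6 : Nat.card L.p.lz.V = 2 ^ (2 * n) := cardV S
  have hfV : Finite L.p.lz.V := finV S
  have : Module.Finite (ZMod 2) L.p.D := Module.Finite.of_finite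
  rw [h6, h4, Module.natCard_eq_pow_finrank (K := ZMod 2) (V := L.p.D), Nat.card_zmod, ← pow_add,
    ← pow_succ] at h5
  have h7 := Nat.pow_right_injective (le_refl 2) h5
  omega

/-- vectors `u + f u` with `b(u, f u) = 0`, `u ≠ 0`, do not come from conjugates of `z` -/
theorem not_conj_graph (S : Swap n h U W) {s : Subgroup.centralizer ({z} : Set G)}
    (I : Inv h U W (h.act s)) {c : Q} {u : h.V} (hu : u ∈ U) (hu0 : u ≠ 0) (hb : h.b u (h.act s u) = 0)
    (hc : h.pr c = u + h.act s u) (g : G) : g * z * g⁻¹ ≠ c := by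
  intro hg
  have hcz : (c : G) ≠ z := by
    intro h1
    have h2 := h.pr_eq_zero.2 (Or.inr h1)
    rw [hc] at h2
    have h3 := eq_of_add h h2
    exact hu0 (I.lag.disj u hu (h3 ▸ I.flip.1 u hu))
  have p := Cfsg.Agent.LargeExtra.Base.pair_of_conj h (g := g) (by rw [hg]; exact c.2) (by rw [hg]; exact hcz)
  rw [hg] at p
  exact loc_false (S := S) (u := u) (w := h.act s u) (f := h.act s)
    { I := I, hu := hu, hu0 := hu0, hw := rfl, hb := hb, p := p, hf := ⟨s, rfl⟩, hva := hc }

end Cfsg.Agent.LargeExtra.WideIrr.FCount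

end

section


/-!
# `H = L_n(2).2` on `n ⊕ n*`: involutions swapping `U`, `W` are not conjugate to `z` (helper754)

helper805's `FlipOuter` (`n = 4`) with the width as a parameter.
-/

set_option autoImplicit false
set_option linter.style.haveILetI false

namespace Cfsg.Agent.LargeExtra.WideIrr.FOuter

open Cfsg.Agent.Co2Type.Quad Cfsg.Agent.LargeExtra.Base Cfsg.Agent.LargeExtra.TwoCentral
open Cfsg.Agent.LargeExtra.Local Cfsg.Agent.LargeExtra.Dickson
open Cfsg.Agent.LargeExtra.CentCard (notMem_of_conj comm_inter comm_mem_inter card_map_conj)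
open Cfsg.Agent.LargeExtra.SwapBasic (eq_of_add Keep Flip)
open Cfsg.Agent.LargeExtra.PGLKill (flip_mul flip_mul_keep keep_mul_flip keep_mul comm_graph)
open Cfsg.Agent.LargeExtra.FlipBasic Cfsg.Agent.LargeExtra.WideIrr.FPair Cfsg.Agent.LargeExtra.WideIrr.FCount
open Module

variable {G : Type*} [Group G] {Q : Subgroup G} {z : G}

variable {n : ℕ} {h : Large Q z} {U W : Submodule (ZMod 2) h.V}

theorem inv_of_flip (S : Swap n h U W) {s : Subgroup.centralizer ({z} : Set G)} (hf : Flip h U W (h.act s))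
    (hs : (s : G) * s = 1 ∨ (s : G) * s = z) : Inv h U W (h.act s) where
  lag := S.lag
  iso := h.b_act s
  flip := hf
  inv v := by
    have h1 : h.act (s * s) = 1 := by
      apply h.act_mem
      show (s : G) * s ∈ Q
      rcases hs with h2 | h2 <;> rw [h2]
      · exact Q.one_mem
      · exact h.z_mem
    rw [map_mul] at h1
    exact congrArg (fun t : h.V ≃ₗ[ZMod 2] h.V => t v) h1

/-- elements of `Q` commuting with `s` -/
theorem graph_of_comm {s : Subgroup.centralizer ({z} : Set G)} (I : Inv h U W (h.act s))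
    (hs : (s : G) * s = 1 ∨ (s : G) * s = z) {r : G} (hr : r ∈ Q) (hrs : r * s = s * r) :
    ∃ u ∈ U, h.b u (h.act s u) = 0 ∧ h.pr ⟨r, hr⟩ = u + h.act s u := by
  have h1 : h.act s (h.pr ⟨r, hr⟩) = h.pr ⟨r, hr⟩ := by
    apply Pair.act_pr_coe
    show (s : G) * r * (s : G)⁻¹ = r
    rw [← hrs]; group
  obtain ⟨u, hu, hru⟩ := I.fixed_iff.1 h1
  refine ⟨u, hu, ?_, hru⟩
  by_contra h2
  obtain ⟨x, rfl⟩ := h.pr_surjective u
  have h3 := (comm_graph hs x ⟨r, hr⟩ hru).2 (zmod_two_ne h2)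
  have h4 : (s : G) * r = r * z * s := h3
  have hsz : (s : G) * z = z * s := Subgroup.mem_centralizer_singleton_iff.1 s.2
  rw [← hrs, mul_assoc r z, ← hsz] at h4
  have h5 := mul_left_cancel h4
  exact h.z_ne (mul_eq_left.1 h5.symm)

/-- every `u + f u` with `b(u, f u) = 0` lifts to an element of `C_Q(s)` -/
theorem comm_of_graph {s : Subgroup.centralizer ({z} : Set G)} 
    (hs : (s : G) * s = 1 ∨ (s : G) * s = z) {u : h.V} (hb : h.b u (h.act s u) = 0) {r : Q}
    (hr : h.pr r = u + h.act s u) : (r : G) * s = s * r := by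
  obtain ⟨x, rfl⟩ := h.pr_surjective u
  exact ((comm_graph hs x r hr).1 hb).symm

/-- The situation of an involution `t = z^g` swapping `U` and `W`. -/
structure Out (S : Swap n h U W) (A : Subgroup G) (t : Subgroup.centralizer ({z} : Set G)) : Prop where
  tt : (t : G) * t = 1
  I : Inv h U W (h.act t)
  la : Large A (t : G)
  conj : ∃ g : G, g * z * g⁻¹ = t
  zA : z ∉ A
  tQ : (t : G) ∉ Q

section out

variable {A : Subgroup G} {t : Subgroup.centralizer ({z} : Set G)}

theorem Out.hs {S : Swap n h U W} (O : Out S A t) : (t : G) * t = 1 ∨ (t : G) * t = z := Or.inl O.tt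

variable [Finite G]

/-- `t d` is not conjugate to `t` for `1 ≠ d ∈ Q ∩ A` -/
theorem Out.no_conj {S : Swap n h U W} (O : Out S A t) {d : G} (hdQ : d ∈ Q) (hdA : d ∈ A) (hd1 : d ≠ 1) (y : G) :
    y * t * y⁻¹ ≠ t * d := by
  intro hy
  have hdt : d * t = t * d := O.la.comm_z d hdA
  obtain ⟨u, hu, hb, hdu⟩ := graph_of_comm O.I O.hs hdQ hdt
  have hdz : d ≠ z := fun h1 => O.zA (h1 ▸ hdA)
  have hu0 : u ≠ 0 := by
    intro h1
    rw [h1, map_zero, add_zero] at hdu
    rcases h.pr_eq_zero.1 hdu with h2 | h2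
    · exact hd1 h2
    · exact hdz h2
  obtain ⟨g, hg⟩ := O.conj
  obtain ⟨w, hwA, hwd⟩ := exists_not_comm O.la hdA hd1 (fun h1 => O.tQ (h1 ▸ hdQ))
  have hwt : w * t = t * w := O.la.comm_z w hwA
  have h1 : w * d * w⁻¹ = t * d := by
    rw [mul_inv_eq_iff_eq_mul, hwd, mul_assoc d, hwt, ← mul_assoc, hdt]
  apply not_conj_graph S O.I (c := ⟨d, hdQ⟩) hu hu0 hb hdu (w⁻¹ * y * g)
  show w⁻¹ * y * g * z * (w⁻¹ * y * g)⁻¹ = d
  calc w⁻¹ * y * g * z * (w⁻¹ * y * g)⁻¹ = w⁻¹ * (y * (g * z * g⁻¹) * y⁻¹) * w := by group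
    _ = w⁻¹ * (w * d * w⁻¹) * w := by rw [hg, hy, h1]
    _ = d := by group

/-- for `1 ≠ d ∈ Q ∩ A` over `u + f u`: `t^x = t d z` -/
theorem Out.conj_eq {S : Swap n h U W} (O : Out S A t) {d x : Q} (hdA : (d : G) ∈ A) (hd1 : (d : G) ≠ 1)
    (hdu : h.pr d = h.pr x + h.act t (h.pr x)) : (x : G) * t * (x : G)⁻¹ = t * (d * z) := by
  obtain ⟨e', he'⟩ : ∃ e' : Q, e' = h.conjQ t⁻¹ x * x⁻¹ := ⟨_, rfl⟩
  have he'c : (e' : G) = (t : G)⁻¹ * x * t * (x : G)⁻¹ := by
    rw [he', Subgroup.coe_mul, h.conjQ_coe, Subgroup.coe_inv, Subgroup.coe_inv]; group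
  have hpre' : h.pr e' = h.pr d := by
    rw [he', h.pr_mul, ← h.act_pr, h.pr_inv, h.neg_eq, hdu, map_inv, O.I.finv, add_comm]
  have hx1 : (x : G) * t * (x : G)⁻¹ = t * e' := by rw [he'c]; group
  rcases h.pr_eq_pr.1 hpre' with h1 | h1
  · exfalso
    rw [h1] at hx1
    exact O.no_conj d.2 hdA hd1 _ hx1
  · rw [hx1, h1]

/-- `{u ∈ U : u + f u ∈ (Q ∩ A)/⟨z⟩}` -/
def DU (_ : Swap n h U W) (A : Subgroup G) (t : Subgroup.centralizer ({z} : Set G)) : Set h.V :=
  {u | u ∈ U ∧ ∃ d : Q, (d : G) ∈ A ∧ h.pr d = u + h.act t u}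

omit [Finite G] in
theorem Out.DU_add {S : Swap n h U W} {u v : h.V} (hu : u ∈ DU S A t) (hv : v ∈ DU S A t) :
    u + v ∈ DU S A t := by
  obtain ⟨hu, d, hd, hdu⟩ := hu
  obtain ⟨hv, e, he, hev⟩ := hv
  refine ⟨U.add_mem hu hv, d * e, A.mul_mem hd he, ?_⟩
  rw [h.pr_mul, hdu, hev, map_add]; abel

omit [Finite G] in
theorem Out.DU_b {S : Swap n h U W} (O : Out S A t) {u : h.V} (hu : u ∈ DU S A t) : h.b u (h.act t u) = 0 := by
  obtain ⟨hu, d, hd, hdu⟩ := hu
  obtain ⟨u', hu', hb, hdu'⟩ := graph_of_comm O.I O.hs d.2 (O.la.comm_z d hd)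
  have : u = u' := O.I.graph_inj hu hu' (hdu.symm.trans hdu')
  rw [this]; exact hb

omit [Finite G] in
theorem Out.DU_ne {S : Swap n h U W} (O : Out S A t) {u : h.V} (hu : u ∈ U) (hu0 : u ≠ 0) {d : Q}
    (hd : h.pr d = u + h.act t u) : (d : G) ≠ 1 := by
  intro h0
  have h1 : h.pr d = 0 := h.pr_eq_zero.2 (Or.inl h0)
  rw [hd] at h1
  have h2 := eq_of_add h h1
  exact hu0 (O.I.lag.disj u hu (h2 ▸ O.I.flip.1 u hu))

/-- distinct nonzero elements of `DU` are not perpendicular -/
theorem Out.DU_pair {S : Swap n h U W} (O : Out S A t) {u v : h.V} (hu : u ∈ DU S A t) (hv : v ∈ DU S A t)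
    (hu0 : u ≠ 0) (hv0 : v ≠ 0) (huv : u ≠ v) : h.b u (h.act t v) = 1 := by
  obtain ⟨huU, d, hd, hdu⟩ := hu
  obtain ⟨hvU, e, he, hev⟩ := hv
  by_contra hcon
  have hb : h.b u (h.act t v) = 0 := by
    rcases zmod_two (h.b u (h.act t v)) with h1 | h1
    · exact h1
    · exact absurd h1 hcon
  obtain ⟨x, hx⟩ := h.pr_surjective u
  obtain ⟨y, hy⟩ := h.pr_surjective v
  have h1 := O.conj_eq hd (O.DU_ne huU hu0 hdu) (x := x) (by rw [hx]; exact hdu)
  have h2 := O.conj_eq he (O.DU_ne hvU hv0 hev) (x := y) (by rw [hy]; exact hev)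
  have hde : h.pr (d * e) = h.pr (x * y) + h.act t (h.pr (x * y)) := by
    rw [h.pr_mul, h.pr_mul, hdu, hev, hx, hy, map_add]; abel
  have huv0 : u + v ≠ 0 := fun h0 => huv (eq_of_add h h0)
  have h3 := O.conj_eq (d := d * e) (x := x * y) (A.mul_mem hd he)
    (O.DU_ne (U.add_mem huU hvU) huv0 (by rw [hde, h.pr_mul, hx, hy])) hde
  -- `x` commutes with `e`
  have h4 : (x : G) * e = e * x := by
    rw [← h.b_pr, hx, hev, map_add, S.lag.bU huU hvU, hb, add_zero]
  have hxz := h.comm_z x x.2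
  have hyz := h.comm_z y y.2
  have hez := h.comm_z e e.2
  have hdz := h.comm_z d d.2
  have h5 : ((x * y : Q) : G) * t * ((x * y : Q) : G)⁻¹ = t * (d * e) := by
    calc ((x * y : Q) : G) * t * ((x * y : Q) : G)⁻¹ = x * (y * t * (y : G)⁻¹) * (x : G)⁻¹ := by
          rw [Subgroup.coe_mul]; group
      _ = (x * t * (x : G)⁻¹) * (x * (e * z) * (x : G)⁻¹) := by rw [h2]; group
      _ = t * (d * z) * (e * z) := by
          rw [h1]
          congr 1
          rw [mul_inv_eq_iff_eq_mul, ← mul_assoc, h4, mul_assoc, hxz, ← mul_assoc]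
      _ = t * (d * (z * (e * z))) := by group
      _ = t * (d * e) := by rw [hez, ← mul_assoc z, h.z_sq, one_mul]
  rw [h5] at h3
  have h6 : (d : G) * e = d * e * z := mul_left_cancel h3
  exact h.z_ne (mul_eq_left.1 h6.symm)

/-- if `b(v, f v) = 1` for some `v ∈ U` then `DU = 0` -/
theorem Out.DU_zero {S : Swap n h U W} (O : Out S A t) {v : h.V} (hv : v ∈ U) (hv1 : h.b v (h.act t v) = 1)
    {u : h.V} (hu : u ∈ DU S A t) : u = 0 := by
  by_contra hu0
  obtain ⟨huU, d, hd, hdu⟩ := hu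
  have hd1 := O.DU_ne huU hu0 hdu
  obtain ⟨x, hx⟩ := h.pr_surjective u
  have h1 := O.conj_eq hd hd1 (x := x) (by rw [hx]; exact hdu)
  obtain ⟨x', hx'⟩ := h.pr_surjective v
  obtain ⟨r, hr⟩ := h.pr_surjective (v + h.act t v)
  have h2 := (comm_graph O.hs x' r (by rw [hr, hx'])).2 (by rw [hx']; exact hv1)
  have h3 : (r : G) * d = d * r := by
    rw [← h.b_pr, hr, hdu]
    exact O.I.b_graph hv huU
  have hrz := h.comm_z r r.2
  have htz : (t : G) * z = z * t := Subgroup.mem_centralizer_singleton_iff.1 t.2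
  apply O.no_conj d.2 hd hd1 ((r : G)⁻¹ * x)
  calc ((r : G)⁻¹ * x) * t * ((r : G)⁻¹ * x)⁻¹ = (r : G)⁻¹ * (x * t * (x : G)⁻¹) * r := by group
    _ = (r : G)⁻¹ * (t * (d * (z * r))) := by rw [h1]; group
    _ = (r : G)⁻¹ * (t * ((d * r) * z)) := by rw [← hrz]; group
    _ = (r : G)⁻¹ * (t * r) * (d * z) := by rw [← h3]; group
    _ = z * t * (d * z) := by rw [h2]; group
    _ = t * (z * d) * z := by rw [← htz]; group
    _ = t * (d * z) * z := by rw [h.comm_z d d.2]
    _ = t * d * (z * z) := by group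
    _ = t * d := by rw [h.z_sq, mul_one]

/-- elements of `C_A(z)` preserving `U`: action on `V` -/
structure Good (S : Swap n h U W) (A : Subgroup G) (t : Subgroup.centralizer ({z} : Set G))
    (y : h.V ≃ₗ[ZMod 2] h.V) : Prop where
  iso : ∀ v w, h.b (y v) (y w) = h.b v w
  keep : Keep h U W y
  comm : ∀ v, y (h.act t v) = h.act t (y v)
  move : ∀ u ∈ U, h.b u (h.act t u) = 0 → u + y u ∈ DU S A t
  fix : ∀ u ∈ DU S A t, y u = u
  surj : ∀ u ∈ U, ∃ u' ∈ U, y u' = u

omit [Finite G] in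
theorem Out.good {S : Swap n h U W} (O : Out S A t) {x : Subgroup.centralizer ({z} : Set G)} (hxA : (x : G) ∈ A)
    (hk : Keep h U W (h.act x)) (hk' : Keep h U W (h.act x⁻¹)) : Good S A t (h.act x) where
  iso := h.b_act x
  keep := hk
  comm v := by
    have : x * t = t * x := Subtype.ext (O.la.comm_z x hxA)
    have h1 := congrArg (fun t => h.act t v) this
    simp only [map_mul] at h1
    exact h1
  move u hu hb := by
    obtain ⟨r, hr⟩ := h.pr_surjective (u + h.act t u)
    have hrt := comm_of_graph O.hs hb hr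
    have hxz : (x : G) * z = z * x := Subgroup.mem_centralizer_singleton_iff.1 x.2
    obtain ⟨h1, h2⟩ := comm_mem_inter h O.la r.2 hrt hxA hxz
    refine ⟨U.add_mem hu (hk.1 u hu), ⟨_, h1⟩, h2, ?_⟩
    have h3 : (⟨(r : G) * x * (r : G)⁻¹ * (x : G)⁻¹, h1⟩ : Q) = r * (h.conjQ x r)⁻¹ := by
      apply Subtype.ext
      rw [Subgroup.coe_mul, Subgroup.coe_inv, h.conjQ_coe]; group
    have hcomm : h.act t (h.act x u) = h.act x (h.act t u) := by
      have : x * t = t * x := Subtype.ext (O.la.comm_z x hxA)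
      have h1 := congrArg (fun t => h.act t u) this
      simp only [map_mul] at h1
      exact h1.symm
    rw [h3, h.pr_mul, h.pr_inv, h.neg_eq, ← h.act_pr, hr, map_add, map_add, hcomm]
    abel
  fix := by
    rintro u ⟨hu, d, hd, hdu⟩
    have hxz : (x : G) * z = z * x := Subgroup.mem_centralizer_singleton_iff.1 x.2
    have h1 : (x : G) * d = d * x := comm_inter O.la h O.tQ hd d.2 hxA hxz
    have h2 : h.act x (h.pr d) = h.pr d := by
      apply Pair.act_pr_coe
      rw [h1]; group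
    rw [hdu, map_add] at h2
    exact (S.lag.add_inj (hk.1 u hu) hu (hk.2 _ (O.I.flip.1 u hu)) (O.I.flip.1 u hu) h2).1
  surj u hu := by
    refine ⟨h.act x⁻¹ u, hk'.1 u hu, ?_⟩
    have : (h.act x * h.act x⁻¹) u = u := by
      rw [← map_mul, mul_inv_cancel, map_one]; rfl
    exact this

omit [Finite G] in
theorem Good.ext {S : Swap n h U W} {y y' : h.V ≃ₗ[ZMod 2] h.V} (hy : Good S A t y) (hy' : Good S A t y')
    (H : ∀ u ∈ U, y u = y' u) : y = y' :=
  S.lag.keep_ext hy.iso hy'.iso hy.keep hy'.keep hy.surj H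

/-- two nontrivial good elements are equal if `DU ⊆ {0, a}` -/
theorem Out.good_unique {S : Swap n h U W} (O : Out S A t) {a : h.V} (ha : a ∈ DU S A t)
    (hDU : ∀ u ∈ DU S A t, u = 0 ∨ u = a)
    {y y' : h.V ≃ₗ[ZMod 2] h.V} (hy : Good S A t y) (hy' : Good S A t y') (h1 : y ≠ 1) (h1' : y' ≠ 1) :
    y = y' := by
  have haU := ha.1
  have hshift : ∀ {y : h.V ≃ₗ[ZMod 2] h.V}, Good S A t y → ∀ u v, y v = v →
      h.b (y u) (h.act t v) = h.b u (h.act t v) := by
    intro y hy u v hv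
    have : h.act t v = y (h.act t v) := by rw [hy.comm, hv]
    conv_lhs => rw [this]
    exact hy.iso _ _
  by_cases halt : ∃ v ∈ U, h.b v (h.act t v) = 1
  · -- non-alternating case: `DU = 0`
    obtain ⟨v₁, hv₁, hv₁1⟩ := halt
    have hfix : ∀ {y : h.V ≃ₗ[ZMod 2] h.V}, Good S A t y → ∀ u ∈ U, h.b u (h.act t u) = 0 → y u = u := by
      intro y hy u hu hb
      exact (eq_of_add h (O.DU_zero hv₁ hv₁1 (hy.move u hu hb))).symm
    have hperp : ∀ {y : h.V ≃ₗ[ZMod 2] h.V}, Good S A t y → ∀ u ∈ U, h.b u (h.act t u) = 0 →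
        h.b (y v₁ + v₁) (h.act t u) = 0 := by
      intro y hy u hu hb
      rw [map_add, LinearMap.add_apply, hshift hy v₁ u (hfix hy u hu hb)]
      rcases zmod_two (h.b v₁ (h.act t u)) with h2 | h2 <;> rw [h2] <;> decide
    have hone : ∀ {y : h.V ≃ₗ[ZMod 2] h.V}, Good S A t y → y ≠ 1 → h.b (y v₁ + v₁) (h.act t v₁) = 1 := by
      intro y hy hy1
      by_contra hcon
      have h0 : h.b (y v₁ + v₁) (h.act t v₁) = 0 := by
        rcases zmod_two (h.b (y v₁ + v₁) (h.act t v₁)) with h2 | h2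
        · exact h2
        · exact absurd h2 hcon
      apply hy1
      have hz : y v₁ + v₁ = 0 := by
        apply O.I.beta_nondeg (U.add_mem (hy.keep.1 _ hv₁) hv₁)
        intro v hv
        rcases zmod_two (h.b v (h.act t v)) with h2 | h2
        · exact hperp hy v hv h2
        · have h3 := hperp hy (v + v₁) (U.add_mem hv hv₁) (by rw [O.I.beta_add, h2, hv₁1]; decide)
          rw [map_add (h.act t), map_add (h.b (y v₁ + v₁)), h0, add_zero] at h3
          exact h3
      apply S.lag.eq_one hy.iso hy.keep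
      intro v hv
      rcases zmod_two (h.b v (h.act t v)) with h2 | h2
      · exact hfix hy v hv h2
      · have h3 := hfix hy (v + v₁) (U.add_mem hv hv₁) (by rw [O.I.beta_add, h2, hv₁1]; decide)
        rw [map_add, eq_of_add h hz] at h3
        exact add_right_cancel h3
    have hv₁eq : y v₁ = y' v₁ := by
      have hz : (y v₁ + v₁) + (y' v₁ + v₁) = 0 := by
        apply O.I.beta_nondeg (U.add_mem (U.add_mem (hy.keep.1 _ hv₁) hv₁) (U.add_mem (hy'.keep.1 _ hv₁) hv₁))
        intro v hv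
        have key : ∀ v ∈ U, h.b v (h.act t v) = 0 → h.b ((y v₁ + v₁) + (y' v₁ + v₁)) (h.act t v) = 0 := by
          intro v hv h2
          rw [map_add, LinearMap.add_apply, hperp hy v hv h2, hperp hy' v hv h2, add_zero]
        rcases zmod_two (h.b v (h.act t v)) with h2 | h2
        · exact key v hv h2
        · have h3 := key (v + v₁) (U.add_mem hv hv₁) (by rw [O.I.beta_add, h2, hv₁1]; decide)
          have h4 : h.b ((y v₁ + v₁) + (y' v₁ + v₁)) (h.act t v₁) = 0 := by
            rw [map_add, LinearMap.add_apply, hone hy h1, hone hy' h1']; decide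
          rw [map_add (h.act t), map_add (h.b (y v₁ + v₁ + (y' v₁ + v₁))), h4, add_zero] at h3
          exact h3
      have := eq_of_add h hz
      exact add_right_cancel this
    apply hy.ext hy'
    intro v hv
    rcases zmod_two (h.b v (h.act t v)) with h2 | h2
    · rw [hfix hy v hv h2, hfix hy' v hv h2]
    · have h3 := hfix hy (v + v₁) (U.add_mem hv hv₁) (by rw [O.I.beta_add, h2, hv₁1]; decide)
      have h4 := hfix hy' (v + v₁) (U.add_mem hv hv₁) (by rw [O.I.beta_add, h2, hv₁1]; decide)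
      rw [map_add] at h3 h4
      rw [← hv₁eq, ← h3] at h4
      exact (add_right_cancel h4).symm
  · -- alternating case
    push Not at halt
    have halt' : ∀ v ∈ U, h.b v (h.act t v) = 0 := by
      intro v hv
      rcases zmod_two (h.b v (h.act t v)) with h2 | h2
      · exact h2
      · exact absurd h2 (halt v hv)
    have hmove : ∀ {y : h.V ≃ₗ[ZMod 2] h.V}, Good S A t y → ∀ v ∈ U, y v = v ∨ y v = v + a := by
      intro y hy v hv
      rcases hDU _ (hy.move v hv (halt' v hv)) with h2 | h2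
      · left; exact (eq_of_add h h2).symm
      · right; rw [← h2, ← add_assoc, h.add_self, zero_add]
    have ha0 : a ≠ 0 := by
      intro h0
      apply h1
      apply S.lag.eq_one hy.iso hy.keep
      intro v hv
      rcases hmove hy v hv with h2 | h2
      · exact h2
      · rw [h2, h0, add_zero]
    have hfix : ∀ {y : h.V ≃ₗ[ZMod 2] h.V}, Good S A t y → ∀ v ∈ U, h.b v (h.act t a) = 0 → y v = v := by
      intro y hy v hv hva
      rcases hmove hy v hv with h2 | h2
      · exact h2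
      · exfalso
        apply ha0
        apply O.I.beta_nondeg haU
        intro v' hv'
        have h3 : h.b (y v) (h.act t (y v')) = h.b v (h.act t v') := by rw [← hy.comm, hy.iso]
        rcases hmove hy v' hv' with h4 | h4 <;> rw [h2, h4] at h3 <;>
          simp only [map_add, LinearMap.add_apply, hva, halt' a haU, add_zero] at h3 <;>
          exact add_eq_left.1 h3
    obtain ⟨v₁, hv₁, hv₁1⟩ : ∃ v₁ ∈ U, h.b v₁ (h.act t a) = 1 := by
      obtain ⟨v, hv, hv1⟩ := S.lag.exists_one (O.I.flip.1 a haU) (fun h0 => ha0 (O.I.f_inj h0))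
      exact ⟨v, hv, by rw [h.b_comm]; exact hv1⟩
    have hone : ∀ {y : h.V ≃ₗ[ZMod 2] h.V}, Good S A t y → y ≠ 1 → y v₁ = v₁ + a := by
      intro y hy hy1
      rcases hmove hy v₁ hv₁ with h2 | h2
      · exfalso
        apply hy1
        apply S.lag.eq_one hy.iso hy.keep
        intro v hv
        rcases zmod_two (h.b v (h.act t a)) with h3 | h3
        · exact hfix hy v hv h3
        · have h4 := hfix hy (v + v₁) (U.add_mem hv hv₁) (by
            rw [map_add, LinearMap.add_apply, h3, hv₁1]; decide)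
          rw [map_add, h2] at h4
          exact add_right_cancel h4
      · exact h2
    apply hy.ext hy'
    intro v hv
    rcases zmod_two (h.b v (h.act t a)) with h3 | h3
    · rw [hfix hy v hv h3, hfix hy' v hv h3]
    · have h4 := hfix hy (v + v₁) (U.add_mem hv hv₁) (by
        rw [map_add, LinearMap.add_apply, h3, hv₁1]; decide)
      have h5 := hfix hy' (v + v₁) (U.add_mem hv hv₁) (by
        rw [map_add, LinearMap.add_apply, h3, hv₁1]; decide)
      rw [map_add, hone hy h1] at h4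
      rw [map_add, hone hy' h1', ← h4] at h5
      exact (add_right_cancel h5).symm

/-- good elements are trivial if `DU = ⟨a, c⟩` -/
theorem Out.good_trivial {S : Swap n h U W} (O : Out S A t) {a c : h.V} (ha : a ∈ DU S A t) (hc : c ∈ DU S A t)
    (hac : h.b a (h.act t c) = 1) (hDU : ∀ u ∈ DU S A t, u = 0 ∨ u = a ∨ u = c ∨ u = a + c)
    {y : h.V ≃ₗ[ZMod 2] h.V} (hy : Good S A t y) : y = 1 := by
  have ha0 : a ≠ 0 := by
    intro h0
    rw [h0, map_zero, LinearMap.zero_apply] at hac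
    exact absurd hac (by decide)
  have halt' : ∀ v ∈ U, h.b v (h.act t v) = 0 := by
    intro v hv
    rcases zmod_two (h.b v (h.act t v)) with h2 | h2
    · exact h2
    · exact absurd (O.DU_zero hv h2 ha) ha0
  apply S.lag.eq_one hy.iso hy.keep
  intro v hv
  have hperp : ∀ d ∈ DU S A t, h.b (v + y v) (h.act t d) = 0 := by
    intro d hd
    have h1 : h.act t d = y (h.act t d) := by rw [hy.comm, hy.fix d hd]
    have h2 : h.b (y v) (h.act t d) = h.b v (h.act t d) := by
      conv_lhs => rw [h1]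
      exact hy.iso _ _
    rw [map_add, LinearMap.add_apply, h2]
    rcases zmod_two (h.b v (h.act t d)) with h3 | h3 <;> rw [h3] <;> decide
  have haa := halt' a ha.1
  have hcc := halt' c hc.1
  have hca : h.b c (h.act t a) = 1 := by rw [O.I.beta_symm]; exact hac
  have h1 := hperp a ha
  have h2 := hperp c hc
  rcases hDU _ (hy.move v hv (halt' v hv)) with h3 | h3 | h3 | h3
  · exact (eq_of_add h h3).symm
  · rw [h3, hac] at h2; exact absurd h2 (by decide)
  · rw [h3, hca] at h1; exact absurd h1 (by decide)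
  · rw [h3, map_add, LinearMap.add_apply, hac, hcc] at h2; exact absurd h2 (by decide)

end out

end Cfsg.Agent.LargeExtra.WideIrr.FOuter

end

section


/-!
# The kill of `H = L_n(2).2` on `n ⊕ n*`, `n ≥ 4` (helper754)

`kill : Swap n h U W → False`, `G` finite without subgroup of index 2, `h : Large Q z`, `|V| = 2²ⁿ`, `n ≥ 4`, `U`, `W`
complementary totally singular `n`-spaces, `C_G(z)` permutes `{U, W}` nontrivially and induces `GL(U)` on `U`.
helper805's `FlipKill` (`n = 4`) with the width as a parameter; for `n` odd the involution swapping `U` and `W`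
comes from the form `∑ uᵢ vᵢ` instead of an alternating form.
-/

set_option autoImplicit false
set_option linter.style.haveILetI false

namespace Cfsg.Agent.LargeExtra.WideIrr.FKill

open Cfsg.Agent.Co2Type.Quad Cfsg.Agent.LargeExtra.Base Cfsg.Agent.LargeExtra.TwoCentral
open Cfsg.Agent.LargeExtra.Local Cfsg.Agent.LargeExtra.Dickson
open Cfsg.Agent.LargeExtra.CentCard (notMem_of_conj comm_inter comm_mem_inter card_map_conj)
open Cfsg.Agent.LargeExtra.SwapBasic (eq_of_add Keep Flip)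
open Cfsg.Agent.LargeExtra.PGLKill (flip_mul flip_mul_keep keep_mul_flip keep_mul comm_graph)
open Cfsg.Agent.LargeExtra.FlipBasic
open Cfsg.Agent.LargeExtra.WideIrr.FPair Cfsg.Agent.LargeExtra.WideIrr.FCount
open Cfsg.Agent.LargeExtra.WideIrr.FOuter
open Module

variable {G : Type*} [Group G] {Q : Subgroup G} {z : G}
variable {n : ℕ} {h : Large Q z} {U W : Submodule (ZMod 2) h.V}

/-- the subgroup of `C_G(z)` preserving `U` and `W` -/
def K (S : Swap n h U W) : Subgroup (Subgroup.centralizer ({z} : Set G)) where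
  carrier := {c | Keep h U W (h.act c)}
  one_mem' := by
    show Keep h U W (h.act 1)
    rw [map_one]
    exact ⟨fun v hv => hv, fun v hv => hv⟩
  mul_mem' := by
    intro a b ha hb
    show Keep h U W (h.act (a * b))
    rw [map_mul]
    exact keep_mul ha hb
  inv_mem' := by
    intro a ha
    show Keep h U W (h.act a⁻¹)
    rcases S.pres a⁻¹ with h1 | h1
    · exact h1
    · exfalso
      have h2 : Flip h U W (h.act (a⁻¹ * a)) := by
        rw [map_mul]; exact flip_mul_keep h1 ha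
      rw [inv_mul_cancel, map_one] at h2
      exact not_keep_flip S ⟨fun v hv => hv, fun v hv => hv⟩ h2

theorem mem_K (S : Swap n h U W) {c : Subgroup.centralizer ({z} : Set G)} : c ∈ K S ↔ Keep h U W (h.act c) :=
  Iff.rfl

theorem not_mem_K (S : Swap n h U W) {c : Subgroup.centralizer ({z} : Set G)} : c ∉ K S ↔ Flip h U W (h.act c) := by
  rw [mem_K]
  constructor
  · intro h1; exact (S.pres c).resolve_left h1
  · intro h1 h2; exact not_keep_flip S h2 h1

theorem index_K (S : Swap n h U W) : (K S).index = 2 := by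
  obtain ⟨s, hs⟩ := S.swap
  rw [Subgroup.index_eq_two_iff]
  refine ⟨s, fun b => ?_⟩
  rcases S.pres b with h1 | h1
  · right
    refine ⟨h1, ?_⟩
    rw [not_mem_K, map_mul]
    exact keep_mul_flip h1 hs
  · left
    refine ⟨?_, (not_mem_K S).2 h1⟩
    rw [mem_K, map_mul]
    exact flip_mul h1 hs

/-- `K` as a subgroup of `G` -/
def KG (S : Swap n h U W) : Subgroup G := (K S).map (Subgroup.centralizer ({z} : Set G)).subtype

theorem mem_KG (S : Swap n h U W) (c : Subgroup.centralizer ({z} : Set G)) : (c : G) ∈ KG S ↔ c ∈ K S := by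
  constructor
  · rintro ⟨d, hd, hdc⟩
    have : d = c := Subtype.ext hdc
    rw [← this]; exact hd
  · intro hc
    exact ⟨c, hc, rfl⟩

theorem KG_le (S : Swap n h U W) : KG S ≤ Subgroup.centralizer ({z} : Set G) := by
  rintro _ ⟨d, _, rfl⟩
  exact d.2

theorem Q_le_KG (S : Swap n h U W) {x : G} (hx : x ∈ Q) : x ∈ KG S := by
  have hxC : x ∈ Subgroup.centralizer ({z} : Set G) :=
    Subgroup.mem_centralizer_singleton_iff.2 (h.comm_z x hx)
  refine (mem_KG S ⟨x, hxC⟩).2 ?_
  rw [mem_K, h.act_mem ⟨x, hxC⟩ hx]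
  exact ⟨fun v hv => hv, fun v hv => hv⟩

/-- involutions swapping `U` and `W` are not conjugate to `z` -/
theorem not_conj_outer [Finite G] (S : Swap n h U W) {t : Subgroup.centralizer ({z} : Set G)}
    (hf : Flip h U W (h.act t)) (ht : (t : G) * t = 1) (g : G) : g * z * g⁻¹ ≠ t := by
  classical
  intro hg
  have htQ : (t : G) ∉ Q := by
    intro h1
    exact not_keep_flip S ((mem_K S).1 ((mem_KG S t).1 (Q_le_KG S h1))) hf
  have hzA := notMem_of_conj h hg htQ
  have hcardA := card_map_conj Q g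
  have la : Large (Q.map (MulAut.conj g).toMonoidHom) (t : G) := by rw [← hg]; exact h.conj g
  revert hzA la hcardA
  generalize Q.map (MulAut.conj g).toMonoidHom = A
  intro hzA hcardA la
  have O : Out S A t :=
    { tt := ht, I := inv_of_flip S hf (Or.inl ht), la := la, conj := ⟨g, hg⟩, zA := hzA, tQ := htQ }
  have htz : z * (t : G) = t * z := (Subgroup.mem_centralizer_singleton_iff.1 t.2).symm
  -- lower bound
  have h1 := Cfsg.Agent.LargeExtra.FlipOuter.card_cent la h.z_sq htz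
  have h2 := la.card_eq
  rw [hcardA, h.card_eq] at h2
  have h3 : Nat.card la.V = 2 ^ (2 * n) := by rw [← cardV S]; omega
  rw [h3] at h1
  obtain ⟨X, hX⟩ : ∃ X, X = Subgroup.centralizer ({z} : Set G) ⊓ A := ⟨_, rfl⟩
  rw [← hX] at h1
  obtain ⟨X0, hX0⟩ : ∃ X0, X0 = KG S ⊓ A := ⟨_, rfl⟩
  -- `|X| ≤ 2 |X₀|`
  have hmemX : ∀ x, x ∈ X ↔ x ∈ Subgroup.centralizer ({z} : Set G) ∧ x ∈ A := by
    intro x; rw [hX, Subgroup.mem_inf]
  have hmemX0 : ∀ x, x ∈ X0 ↔ x ∈ KG S ∧ x ∈ A := by
    intro x; rw [hX0, Subgroup.mem_inf]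
  have hXX0 : Nat.card X ≤ 2 * Nat.card X0 := by
    let k : X → X0 × Bool := fun x =>
      if hk : (x : G) ∈ KG S then (⟨x, (hmemX0 _).2 ⟨hk, ((hmemX _).1 x.2).2⟩⟩, true)
      else (⟨x * t, (hmemX0 _).2 ⟨by
          obtain ⟨hxC, hxA⟩ := (hmemX _).1 x.2
          have h4 : (⟨x, hxC⟩ : Subgroup.centralizer ({z} : Set G)) ∉ K S := by
            rw [← mem_KG]; exact hk
          rw [not_mem_K] at h4
          have h5 : (⟨x, hxC⟩ * t : Subgroup.centralizer ({z} : Set G)) ∈ K S := by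
            rw [mem_K, map_mul]; exact flip_mul h4 hf
          exact (mem_KG S _).2 h5, A.mul_mem ((hmemX _).1 x.2).2 la.z_mem⟩⟩, false)
    have hk : Function.Injective k := by
      intro x y hxy
      by_cases hx : (x : G) ∈ KG S <;> by_cases hy : (y : G) ∈ KG S
      · simp only [k, dif_pos hx, dif_pos hy, Prod.mk.injEq, and_true] at hxy
        exact Subtype.ext (congrArg (fun t : X0 => (t : G)) hxy)
      · simp only [k, dif_pos hx, dif_neg hy, Prod.mk.injEq, Bool.true_eq_false, and_false] at hxy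
      · simp only [k, dif_neg hx, dif_pos hy, Prod.mk.injEq, Bool.false_eq_true, and_false] at hxy
      · simp only [k, dif_neg hx, dif_neg hy, Prod.mk.injEq, and_true] at hxy
        exact Subtype.ext (mul_right_cancel (congrArg (fun t : X0 => (t : G)) hxy))
    have h4 := Nat.card_le_card_of_injective k hk
    rw [Nat.card_prod, Nat.card_eq_fintype_card (α := Bool), Fintype.card_bool] at h4
    omega
  -- `|X₀| = |img| |X₀ ∩ Q|`
  have hX0C : X0 ≤ Subgroup.centralizer ({z} : Set G) := by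
    rw [hX0]; exact inf_le_left.trans (KG_le S)
  have himg := card_img h hX0C
  have hgood : ∀ y ∈ img h X0, Good S A t y := by
    rintro _ ⟨c, hc, rfl⟩
    obtain ⟨hcK, hcA⟩ := (hmemX0 _).1 hc
    have hcK' : c ∈ K S := (mem_KG S c).1 hcK
    exact O.good hcA hcK' ((K S).inv_mem hcK')
  -- `X₀ ∩ Q` embeds into `DU`
  have hDUfin : (DU S A t).Finite := by
    have := finV S
    exact Set.toFinite _
  have hinj : Nat.card ↥(X0 ⊓ Q) ≤ (DU S A t).ncard := by
    have hex : ∀ x : ↥(X0 ⊓ Q), ∃ u : DU S A t, h.pr ⟨x, (Subgroup.mem_inf.1 x.2).2⟩ = u + h.act t u := by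
      intro x
      obtain ⟨hx0, hxQ⟩ := Subgroup.mem_inf.1 x.2
      have hxA := ((hmemX0 _).1 hx0).2
      obtain ⟨u, hu, -, hxu⟩ := graph_of_comm O.I O.hs hxQ (la.comm_z x hxA)
      exact ⟨⟨u, hu, ⟨x, hxQ⟩, hxA, hxu⟩, hxu⟩
    choose F hF using hex
    have hFin : Function.Injective F := by
      intro x y hxy
      have h4 : h.pr ⟨x, (Subgroup.mem_inf.1 x.2).2⟩ = h.pr ⟨y, (Subgroup.mem_inf.1 y.2).2⟩ := by
        rw [hF x, hF y, hxy]
      rcases h.pr_eq_pr.1 h4 with h5 | h5
      · exact Subtype.ext h5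
      · exfalso
        apply hzA
        have hxA := ((hmemX0 _).1 (Subgroup.mem_inf.1 x.2).1).2
        have hyA := ((hmemX0 _).1 (Subgroup.mem_inf.1 y.2).1).2
        have h5' : (x : G) = y * z := h5
        have : z = (y : G)⁻¹ * x := by rw [h5']; group
        rw [this]
        exact A.mul_mem (A.inv_mem hyA) hxA
    have hfin : Finite (DU S A t) := hDUfin
    have h4 := Nat.card_le_card_of_injective F hFin
    rw [Nat.card_coe_set_eq] at h4
    exact h4
  have hX0le : Nat.card X0 ≤ 4 := by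
    rw [← himg]
    by_cases hcase : ∃ a ∈ DU S A t, ∃ c ∈ DU S A t, a ≠ 0 ∧ c ≠ 0 ∧ a ≠ c
    · obtain ⟨a, ha, c, hc, ha0, hc0, hac⟩ := hcase
      have hDU : ∀ u ∈ DU S A t, u = 0 ∨ u = a ∨ u = c ∨ u = a + c := by
        intro u hu
        by_contra hcon
        push Not at hcon
        obtain ⟨h4, h5, h6, h7⟩ := hcon
        have h8 := O.DU_pair ha hu ha0 h4 (Ne.symm h5)
        have h9 := O.DU_pair hc hu hc0 h4 (Ne.symm h6)
        have h10 := O.DU_pair (Out.DU_add ha hc) hu (fun h0 => hac (eq_of_add h h0)) h4 (Ne.symm h7)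
        rw [map_add, LinearMap.add_apply, h8, h9] at h10
        exact absurd h10 (by decide)
      have h4 : (DU S A t).ncard ≤ 4 := by
        calc (DU S A t).ncard ≤ ({0, a, c, a + c} : Set h.V).ncard := by
              apply Set.ncard_le_ncard
              · intro u hu
                rcases hDU u hu with h5 | h5 | h5 | h5 <;> simp [h5]
              · exact Set.toFinite _
          _ ≤ 4 := by
              calc ({0, a, c, a + c} : Set h.V).ncard ≤ ({a, c, a + c} : Set h.V).ncard + 1 := Set.ncard_insert_le _ _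
                _ ≤ (({c, a + c} : Set h.V).ncard + 1) + 1 := by gcongr; exact Set.ncard_insert_le _ _
                _ ≤ ((({a + c} : Set h.V).ncard + 1) + 1) + 1 := by gcongr; exact Set.ncard_insert_le _ _
                _ = 4 := by rw [Set.ncard_singleton]
      have h5 : Nat.card (img h X0) ≤ 1 := by
        have hsub : Subsingleton (img h X0) := by
          constructor
          intro x y
          apply Subtype.ext
          rw [O.good_trivial ha hc (O.DU_pair ha hc ha0 hc0 hac) hDU (hgood x x.2),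
            O.good_trivial ha hc (O.DU_pair ha hc ha0 hc0 hac) hDU (hgood y y.2)]
        exact Finite.card_le_one_iff_subsingleton.2 hsub
      calc Nat.card (img h X0) * Nat.card ↥(X0 ⊓ Q) ≤ 1 * 4 := Nat.mul_le_mul h5 (hinj.trans h4)
        _ = 4 := by norm_num
    · have h4 : ∃ a ∈ DU S A t, ∀ u ∈ DU S A t, u = 0 ∨ u = a := by
        by_cases h5 : ∃ a ∈ DU S A t, a ≠ 0
        · obtain ⟨a, ha, ha0⟩ := h5
          refine ⟨a, ha, fun u hu => ?_⟩
          by_contra hcon
          push Not at hcon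
          exact hcase ⟨a, ha, u, hu, ha0, hcon.1, Ne.symm hcon.2⟩
        · push Not at h5
          refine ⟨0, ⟨U.zero_mem, 1, A.one_mem, ?_⟩, fun u hu => Or.inl (h5 u hu)⟩
          rw [h.pr_one, map_zero, add_zero]
      obtain ⟨a, ha, hDU⟩ := h4
      have h4 : (DU S A t).ncard ≤ 2 := by
        calc (DU S A t).ncard ≤ ({0, a} : Set h.V).ncard := by
              apply Set.ncard_le_ncard
              · intro u hu
                rcases hDU u hu with h5 | h5 <;> simp [h5]
              · exact Set.toFinite _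
          _ ≤ ({a} : Set h.V).ncard + 1 := Set.ncard_insert_le _ _
          _ = 2 := by rw [Set.ncard_singleton]
      have h5 : Nat.card (img h X0) ≤ 2 := by
        have hinj' : Function.Injective (fun x : img h X0 => decide ((x : h.V ≃ₗ[ZMod 2] h.V) = 1)) := by
          intro x y hxy
          have hxy' : decide ((x : h.V ≃ₗ[ZMod 2] h.V) = 1) = decide ((y : h.V ≃ₗ[ZMod 2] h.V) = 1) := hxy
          by_cases hx : (x : h.V ≃ₗ[ZMod 2] h.V) = 1
          · rw [decide_eq_true hx] at hxy'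
            exact Subtype.ext (hx.trans (of_decide_eq_true hxy'.symm).symm)
          · rw [decide_eq_false hx] at hxy'
            exact Subtype.ext (O.good_unique ha hDU (hgood x x.2) (hgood y y.2) hx (of_decide_eq_false hxy'.symm))
        have := Nat.card_le_card_of_injective _ hinj'
        rwa [Nat.card_eq_fintype_card (α := Bool), Fintype.card_bool] at this
      calc Nat.card (img h X0) * Nat.card ↥(X0 ⊓ Q) ≤ 2 * 2 := Nat.mul_le_mul h5 (hinj.trans h4)
        _ = 4 := by norm_num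
  have h4 : Nat.card X ≤ 8 := by omega
  have h5 : Nat.card X * Nat.card X ≤ 8 * 8 := Nat.mul_le_mul h4 h4
  have h6 := pow_pos' S
  have h7 := Nat.mul_le_mul h6 h6
  have e : 2 ^ (2 * n) = 2 ^ n * 2 ^ n := by rw [two_mul, pow_add]
  omega

theorem finrank_U (S : Swap n h U W) : finrank (ZMod 2) U = n := by
  have := finV S
  have : Module.Finite (ZMod 2) h.V := Module.Finite.of_finite
  have h1 := Module.natCard_eq_pow_finrank (K := ZMod 2) (V := U)
  rw [Nat.card_zmod, S.cardU] at h1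
  exact (Nat.pow_right_injective (le_refl 2) h1).symm

/-- an element swapping `U` and `W` whose square acts trivially, given by an involution `σ` of a basis of `U` -/
theorem exists_outer_of (S : Swap n h U W) {ι : Type*} [Fintype ι] [DecidableEq ι] (e : Basis ι (ZMod 2) U)
    (σ : ι → ι) (hσσ : ∀ i, σ (σ i) = i) :
    ∃ s : Subgroup.centralizer ({z} : Set G), Flip h U W (h.act s) ∧ h.act s * h.act s = 1 ∧
      ∀ u v : U, h.b u (h.act s v) = ∑ i, e.repr u i * e.repr v (σ i) := by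
  classical
  have := finV S
  have : Module.Finite (ZMod 2) h.V := Module.Finite.of_finite
  obtain ⟨c₀, hc₀⟩ := S.swap
  have hinv : Flip h U W (h.act c₀⁻¹) := by
    rw [← not_mem_K S, inv_mem_iff, not_mem_K]; exact hc₀
  have hw : ∀ i, ∃ w ∈ W, ∀ u : U, h.b w u = e.coord i u := fun i => S.lag.exists_repr (e.coord i)
  choose w hwW hwu using hw
  let φ : U →ₗ[ZMod 2] h.V := ∑ i, (e.coord i).smulRight (w (σ i))
  have hφ : ∀ u, φ u = ∑ i, e.coord i u • w (σ i) := by
    intro u
    show (∑ i, (e.coord i).smulRight (w (σ i))) u = _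
    rw [LinearMap.sum_apply]
    rfl
  have hφW : ∀ u, φ u ∈ W := by
    intro u
    rw [hφ]
    exact W.sum_mem fun i _ => W.smul_mem _ (hwW _)
  have hφb : ∀ u v : U, h.b (φ u) v = ∑ i, e.coord i u * e.coord (σ i) v := by
    intro u v
    rw [hφ, map_sum, LinearMap.sum_apply]
    apply Finset.sum_congr rfl
    intro i _
    rw [map_smul, LinearMap.smul_apply, hwu, smul_eq_mul]
  have hφsymm : ∀ u v : U, h.b (φ u) v = h.b (φ v) u := by
    intro u v
    rw [hφb, hφb]
    refine Finset.sum_bij (fun i _ => σ i) (fun i _ => Finset.mem_univ _) ?_ ?_ ?_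
    · intro i _ j _ hij
      rw [← hσσ i, hij, hσσ]
    · intro i _
      exact ⟨σ i, Finset.mem_univ _, hσσ i⟩
    · intro i _
      rw [hσσ, mul_comm]
  have hφinj : ∀ u : U, φ u = 0 → u = 0 := by
    intro u hu
    apply e.ext_elem
    intro i
    have h1 : h.b (φ u) (e (σ i)) = 0 := by rw [hu]; simp
    rw [hφb] at h1
    rw [map_zero, Finsupp.zero_apply]
    rw [Finset.sum_eq_single i] at h1
    · simpa [Basis.coord_apply] using h1
    · intro j _ hj
      rw [Basis.coord_apply, Basis.coord_apply, e.repr_self, Finsupp.single_apply, if_neg, mul_zero]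
      intro h2
      apply hj
      rw [← hσσ j, ← h2, hσσ]
    · intro hi; exact absurd (Finset.mem_univ i) hi
  -- the automorphism of `U`
  let g : U →ₗ[ZMod 2] U :=
    { toFun := fun u => ⟨h.act c₀⁻¹ (φ u), hinv.2 _ (hφW u)⟩
      map_add' := fun u v => by
        apply Subtype.ext
        show h.act c₀⁻¹ (φ (u + v)) = h.act c₀⁻¹ (φ u) + h.act c₀⁻¹ (φ v)
        rw [map_add, map_add]
      map_smul' := fun a u => by
        apply Subtype.ext
        show h.act c₀⁻¹ (φ (a • u)) = a • h.act c₀⁻¹ (φ u)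
        rw [map_smul, map_smul] }
  have hginj : Function.Injective g := by
    rw [← LinearMap.ker_eq_bot, LinearMap.ker_eq_bot']
    intro u hu
    apply hφinj
    have h1 : h.act c₀⁻¹ (φ u) = 0 := congrArg Subtype.val hu
    exact (h.act c₀⁻¹).map_eq_zero_iff.1 h1
  obtain ⟨c₁, hc₁⟩ := S.gl (LinearEquiv.ofInjectiveEndo g hginj)
  have hsU : ∀ u : U, h.act (c₀ * c₁) u = φ u := by
    intro u
    have h1 : h.act c₁ u = h.act c₀⁻¹ (φ u) := hc₁ u
    rw [map_mul]
    show h.act c₀ (h.act c₁ u) = φ u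
    rw [h1]
    have h2 : (h.act c₀ * h.act c₀⁻¹) (φ u) = φ u := by
      rw [← map_mul, mul_inv_cancel, map_one]; rfl
    exact h2
  have hflip : Flip h U W (h.act (c₀ * c₁)) := by
    rcases S.pres (c₀ * c₁) with h1 | h1
    · exfalso
      obtain ⟨u, hu, hu0⟩ := exists_ne_zero S
      apply hu0
      have h2 := h1.1 u hu
      rw [hsU ⟨u, hu⟩] at h2
      have h3 := S.lag.disj _ h2 (hφW _)
      exact congrArg Subtype.val (hφinj ⟨u, hu⟩ h3)
    · exact h1
  have hflip' : Flip h U W (h.act (c₀ * c₁)⁻¹) := by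
    rw [← not_mem_K S, inv_mem_iff, not_mem_K]; exact hflip
  refine ⟨c₀ * c₁, hflip, ?_, ?_⟩
  · obtain ⟨f, hf⟩ : ∃ f, f = h.act (c₀ * c₁) := ⟨_, rfl⟩
    rw [← hf] at hflip hsU ⊢
    have hiso : ∀ v w, h.b (f v) (f w) = h.b v w := by rw [hf]; exact h.b_act _
    have hsurj : ∀ w ∈ W, ∃ u ∈ U, f u = w := by
      intro w hw
      refine ⟨h.act (c₀ * c₁)⁻¹ w, hflip'.2 w hw, ?_⟩
      rw [hf]
      have h2 : (h.act (c₀ * c₁) * h.act (c₀ * c₁)⁻¹) w = w := by
        rw [← map_mul, mul_inv_cancel, map_one]; rfl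
      exact h2
    have hUU : ∀ u ∈ U, f (f u) = u := by
      intro u hu
      apply eq_of_add h
      apply S.lag.eq_zero_U (U.add_mem (hflip.2 _ (hflip.1 u hu)) hu)
      intro w hw
      obtain ⟨u', hu', rfl⟩ := hsurj w hw
      rw [map_add, LinearMap.add_apply, hiso, hsU ⟨u, hu⟩, hsU ⟨u', hu'⟩, h.b_comm u]
      have h1 : h.b (φ ⟨u, hu⟩) u' = h.b (φ ⟨u', hu'⟩) u := hφsymm ⟨u, hu⟩ ⟨u', hu'⟩
      rw [h1]
      rcases zmod_two (h.b (φ ⟨u', hu'⟩) u) with h2 | h2 <;> rw [h2] <;> decide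
    ext v
    obtain ⟨u, hu, w, hw, rfl⟩ := S.lag.span v
    show f (f (u + w)) = u + w
    obtain ⟨u', hu', rfl⟩ := hsurj w hw
    rw [map_add, map_add, hUU u hu, hUU u' hu']
  · intro u v
    rw [hsU v, h.b_comm, hφsymm, hφb]
    rfl

/-- an element swapping `U` and `W` whose square acts trivially, such that `C_Q(s)` is large enough -/
theorem exists_outer_inv (S : Swap n h U W) :
    ∃ s : Subgroup.centralizer ({z} : Set G), Flip h U W (h.act s) ∧ h.act s * h.act s = 1 ∧
      ∀ c ∈ U, c ≠ 0 → (∀ u ∈ U, h.b u (h.act s u) = 0 → h.b c (h.act s u) = 0) → h.b c (h.act s c) = 1 := by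
  classical
  have := finV S
  have : Module.Finite (ZMod 2) h.V := Module.Finite.of_finite
  rcases Nat.even_or_odd n with hn | hn
  · -- an alternating form
    obtain ⟨m, hm⟩ := hn
    have hfr : finrank (ZMod 2) U = Fintype.card (Fin m × Bool) := by
      rw [finrank_U S, hm, Fintype.card_prod, Fintype.card_fin, Fintype.card_bool]; omega
    let e : Basis (Fin m × Bool) (ZMod 2) U :=
      (Module.finBasis (ZMod 2) U).reindex (Fintype.equivOfCardEq (by rw [Fintype.card_fin, hfr]))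
    let σ : Fin m × Bool → Fin m × Bool := fun i => (i.1, !i.2)
    have hσσ : ∀ i, σ (σ i) = i := by
      rintro ⟨i, j⟩
      show (i, !!j) = (i, j)
      rw [Bool.not_not]
    have hσ1 : ∀ i, σ i ≠ i := by
      rintro ⟨i, j⟩ h1
      have h2 : (!j) = j := congrArg Prod.snd h1
      cases j <;> exact absurd h2 (by decide)
    obtain ⟨s, hs, hss, hb⟩ := exists_outer_of S e σ hσσ
    refine ⟨s, hs, hss, fun c hc hc0 H => ?_⟩
    exfalso
    apply hc0
    have halt : ∀ u ∈ U, h.b u (h.act s u) = 0 := by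
      intro u hu
      rw [hb ⟨u, hu⟩ ⟨u, hu⟩]
      apply Finset.sum_involution (fun i _ => σ i)
      · intro i _
        rw [hσσ, mul_comm (e.repr ⟨u, hu⟩ (σ i))]
        generalize e.repr ⟨u, hu⟩ i * e.repr ⟨u, hu⟩ (σ i) = x
        revert x; decide
      · intro i _ _
        exact hσ1 i
      · intro i _
        exact Finset.mem_univ _
      · intro i _
        exact hσσ i
    have I : Inv h U W (h.act s) :=
      { lag := S.lag
        iso := h.b_act s
        flip := hs
        inv := fun v => congrArg (fun t : h.V ≃ₗ[ZMod 2] h.V => t v) hss }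
    exact I.beta_nondeg hc fun u hu => H u hu (halt u hu)
  · -- the form `∑ uᵢ vᵢ`
    let e : Basis (Fin n) (ZMod 2) U := Module.finBasisOfFinrankEq (ZMod 2) U (finrank_U S)
    obtain ⟨s, hs, hss, hb⟩ := exists_outer_of S e id (fun i => rfl)
    refine ⟨s, hs, hss, fun c hc hc0 H => ?_⟩
    have hcoef : ∀ (x : U) (i j : Fin n), i ≠ j →
        ∑ k, e.repr x k * e.repr (e i + e j) (id k) = e.repr x i + e.repr x j := by
      intro x i j hij
      have h2 : ∀ k, e.repr x k * e.repr (e i + e j) (id k) =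
          (if k = i then e.repr x k else 0) + (if k = j then e.repr x k else 0) := by
        intro k
        rw [id, map_add, Finsupp.add_apply, e.repr_self, e.repr_self, Finsupp.single_apply,
          Finsupp.single_apply, mul_add, mul_ite, mul_ite, mul_one, mul_zero]
        simp only [eq_comm]
      rw [Finset.sum_congr rfl fun k _ => h2 k, Finset.sum_add_distrib, Finset.sum_ite_eq',
        Finset.sum_ite_eq', if_pos (Finset.mem_univ _), if_pos (Finset.mem_univ _)]
    have h1 : ∀ i j, e.repr ⟨c, hc⟩ i = e.repr ⟨c, hc⟩ j := by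
      intro i j
      by_cases hij : i = j
      · rw [hij]
      have h2 := H (e i + e j : U) (e i + e j : U).2 (by
        rw [hb, hcoef _ i j hij, map_add, Finsupp.add_apply, Finsupp.add_apply, e.repr_self, e.repr_self,
          Finsupp.single_eq_same, Finsupp.single_eq_same, Finsupp.single_eq_of_ne hij,
          Finsupp.single_eq_of_ne (Ne.symm hij)]
        decide)
      rw [hb ⟨c, hc⟩, hcoef _ i j hij] at h2
      revert h2
      generalize e.repr ⟨c, hc⟩ i = x, e.repr ⟨c, hc⟩ j = y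
      revert x y; decide
    obtain ⟨i₀, hi₀⟩ : ∃ i, e.repr ⟨c, hc⟩ i ≠ 0 := by
      by_contra hcon
      push Not at hcon
      apply hc0
      have h2 : (⟨c, hc⟩ : U) = 0 := e.ext_elem fun i => by rw [hcon i, map_zero, Finsupp.zero_apply]
      exact congrArg Subtype.val h2
    rw [hb ⟨c, hc⟩ ⟨c, hc⟩, Finset.sum_congr rfl (g := fun _ => (1 : ZMod 2)) (fun i _ => by
      rw [id, h1 i i₀, zmod_two_ne hi₀, mul_one]), Finset.sum_const, Finset.card_univ, Fintype.card_fin,
      nsmul_one]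
    exact (ZMod.natCast_eq_one_iff_odd).2 hn

/-- an element swapping `U` and `W` with square in `⟨z⟩`, such that `C_Q(s)` is large enough -/
theorem exists_outer (S : Swap n h U W) :
    ∃ s : Subgroup.centralizer ({z} : Set G), Flip h U W (h.act s) ∧ ((s : G) * s = 1 ∨ (s : G) * s = z) ∧
      ∀ c ∈ U, c ≠ 0 → (∀ u ∈ U, h.b u (h.act s u) = 0 → h.b c (h.act s u) = 0) → h.b c (h.act s c) = 1 := by
  have := S.lag.finQ
  obtain ⟨s, hs, hss, halt⟩ := exists_outer_inv S
  have hkQ : (s : G) * s ∈ Q := h.mem_of_act (s * s) (by rw [map_mul]; exact hss)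
  have I : Inv h U W (h.act s) :=
    { lag := S.lag
      iso := h.b_act s
      flip := hs
      inv := fun v => congrArg (fun t : h.V ≃ₗ[ZMod 2] h.V => t v) hss }
  have h1 : h.act s (h.pr ⟨(s : G) * s, hkQ⟩) = h.pr ⟨(s : G) * s, hkQ⟩ := by
    apply Pair.act_pr_coe
    show (s : G) * (s * s) * (s : G)⁻¹ = s * s
    group
  obtain ⟨u, hu, hku⟩ := I.fixed_iff.1 h1
  obtain ⟨x, hx⟩ := h.pr_surjective u
  have hxC : (x : G) ∈ Subgroup.centralizer ({z} : Set G) :=
    Subgroup.mem_centralizer_singleton_iff.2 (h.comm_z x x.2)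
  have hact : h.act (s * ⟨x, hxC⟩) = h.act s := by
    rw [map_mul, h.act_mem ⟨x, hxC⟩ x.2, mul_one]
  refine ⟨s * ⟨x, hxC⟩, ?_, ?_, ?_⟩
  · rw [hact]; exact hs
  · have h2 : h.pr (h.conjQ s x * ⟨(s : G) * s, hkQ⟩ * x) = 0 := by
      rw [h.pr_mul, h.pr_mul, ← h.act_pr, hku, hx]
      calc h.act s u + (u + h.act s u) + u = (h.act s u + h.act s u) + (u + u) := by abel
        _ = 0 := by rw [h.add_self, h.add_self, add_zero]
    have h3 := h.pr_eq_zero.1 h2
    have e : ((h.conjQ s x * ⟨(s : G) * s, hkQ⟩ * x : Q) : G) = (s * x) * (s * x) := by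
      rw [Subgroup.coe_mul, Subgroup.coe_mul, h.conjQ_coe]
      show (s : G) * x * (s : G)⁻¹ * (s * s) * x = s * x * (s * x)
      group
    rw [e] at h3
    exact h3
  · rw [hact]; exact halt

/-- **The kill of `L_n(2).2` on `n ⊕ n*`, `n ≥ 4`.** -/
theorem kill [Finite G] (hG : ∀ H : Subgroup G, H.index ≠ 2) (S : Swap n h U W) : False := by
  obtain ⟨s, hsf, hss, halt⟩ := exists_outer S
  have I := inv_of_flip S hsf hss
  have hsz : (s : G) * z = z * s := Subgroup.mem_centralizer_singleton_iff.1 s.2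
  have hle := KG_le S
  have h2 : (KG S).relIndex (Subgroup.centralizer ({z} : Set G)) = 2 := by
    have e : (KG S).subgroupOf (Subgroup.centralizer ({z} : Set G)) = K S := by
      ext d
      rw [Subgroup.mem_subgroupOf, mem_KG]
    rw [Subgroup.relIndex, e, index_K]
  have hs0 : (s : G) ∉ KG S := by rw [mem_KG]; exact (not_mem_K S).2 hsf
  have hssQ : (s : G) * s ∈ Q := by
    rcases hss with h1 | h1 <;> rw [h1]
    · exact Q.one_mem
    · exact h.z_mem
  have hss_s : ((s : G) * s) * s = s * ((s : G) * s) := by group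
  have hs4 : (s : G) ^ (2 ^ 2) = 1 := by
    have : (s : G) ^ (2 ^ 2) = (s * s) * (s * s) := by
      rw [show (2 ^ 2 : ℕ) = 4 from rfl]
      simp only [pow_succ, pow_zero, one_mul, mul_assoc]
    rw [this]
    rcases hss with h1 | h1 <;> rw [h1]
    · rw [one_mul]
    · exact h.z_sq
  -- even powers
  have hev : ∀ (m : ℕ) (g : G), 2 ∣ m → (g⁻¹ * (s : G) ^ m * g) * z = z * (g⁻¹ * (s : G) ^ m * g) →
      g⁻¹ * (s : G) ^ m * g ∈ KG S := by
    rintro m g ⟨j, rfl⟩ hcomm
    have h3 : (s : G) ^ (2 * j) = 1 ∨ (s : G) ^ (2 * j) = z := by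
      rw [pow_mul, pow_two]
      rcases hss with h1 | h1 <;> rw [h1]
      · left; exact one_pow j
      · rcases Nat.even_or_odd j with ⟨k, hk⟩ | ⟨k, hk⟩
        · left
          rw [hk, ← two_mul, pow_mul, pow_two, h.z_sq, one_pow]
        · right
          rw [hk, pow_succ, pow_mul, pow_two, h.z_sq, one_pow, one_mul]
    by_contra hnot
    have htC : g⁻¹ * (s : G) ^ (2 * j) * g ∈ Subgroup.centralizer ({z} : Set G) :=
      Subgroup.mem_centralizer_singleton_iff.2 hcomm
    have hflip : Flip h U W (h.act ⟨_, htC⟩) := by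
      rw [← not_mem_K S, ← mem_KG]; exact hnot
    rcases h3 with h4 | h4
    · apply hnot
      rw [h4]
      have : g⁻¹ * 1 * g = 1 := by group
      rw [this]; exact (KG S).one_mem
    · refine not_conj_outer S hflip ?_ g⁻¹ ?_
      · show g⁻¹ * (s : G) ^ (2 * j) * g * (g⁻¹ * (s : G) ^ (2 * j) * g) = 1
        rw [h4]
        calc g⁻¹ * z * g * (g⁻¹ * z * g) = g⁻¹ * (z * z) * g := by group
          _ = 1 := by rw [h.z_sq]; group
      · show g⁻¹ * z * (g⁻¹)⁻¹ = g⁻¹ * (s : G) ^ (2 * j) * g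
        rw [h4, inv_inv]
  -- the group `P = ⟨s⟩ C_Q(s)`
  let P : Subgroup G :=
    { carrier := {x | ∃ y ∈ Q, y * s = s * y ∧ (x = y ∨ x = y * s)}
      one_mem' := ⟨1, Q.one_mem, by group, Or.inl rfl⟩
      mul_mem' := by
        rintro a b ⟨y, hy, hys, ha⟩ ⟨y', hy', hys', hb⟩
        have hyy' : y * y' * s = s * (y * y') := by
          calc y * y' * s = y * (y' * s) := by group
            _ = (y * s) * y' := by rw [hys']; group
            _ = s * (y * y') := by rw [hys]; group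
        rcases ha with rfl | rfl <;> rcases hb with rfl | rfl
        · exact ⟨a * b, Q.mul_mem hy hy', hyy', Or.inl rfl⟩
        · exact ⟨a * y', Q.mul_mem hy hy', hyy', Or.inr (by group)⟩
        · refine ⟨y * b, Q.mul_mem hy hy', hyy', Or.inr ?_⟩
          calc y * (s : G) * b = y * (s * b) := by group
            _ = y * b * s := by rw [← hys']; group
        · refine ⟨y * y' * (s * s), Q.mul_mem (Q.mul_mem hy hy') hssQ, ?_, Or.inl ?_⟩
          · calc y * y' * ((s : G) * s) * s = (y * y') * (((s : G) * s) * s) := by group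
              _ = (y * y' * s) * (s * s) := by rw [hss_s]; group
              _ = s * (y * y' * (s * s)) := by rw [hyy']; group
          · calc y * (s : G) * (y' * s) = y * (s * y') * s := by group
              _ = y * y' * (s * s) := by rw [← hys']; group
      inv_mem' := by
        rintro a ⟨y, hy, hys, ha⟩
        have h1 : y⁻¹ * s = s * y⁻¹ := by
          rw [inv_mul_eq_iff_eq_mul, ← mul_assoc, hys, mul_inv_cancel_right]
        rcases ha with rfl | rfl
        · exact ⟨a⁻¹, Q.inv_mem hy, h1, Or.inl rfl⟩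
        · refine ⟨y⁻¹ * (s * s)⁻¹, Q.mul_mem (Q.inv_mem hy) (Q.inv_mem hssQ), ?_, Or.inr ?_⟩
          · calc y⁻¹ * ((s : G) * s)⁻¹ * s = (y⁻¹ * s) * (s : G)⁻¹ * (s : G)⁻¹ := by group
              _ = s * (y⁻¹ * ((s : G) * s)⁻¹) := by rw [h1]; group
          · calc (y * (s : G))⁻¹ = (s : G)⁻¹ * y⁻¹ := by group
              _ = (s : G)⁻¹ * (y⁻¹ * s) * (s : G)⁻¹ := by group
              _ = y⁻¹ * (s : G)⁻¹ := by rw [h1]; group
              _ = y⁻¹ * ((s : G) * s)⁻¹ * s := by group }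
  have hPs : ∀ p ∈ P, p * s = s * p := by
    rintro p ⟨y, hy, hys, rfl | rfl⟩
    · exact hys
    · calc y * (s : G) * s = (s * y) * s := by rw [hys]
        _ = s * (y * s) := mul_assoc _ _ _
  have hPz : ∀ p ∈ P, p * z = z * p := by
    rintro p ⟨y, hy, hys, rfl | rfl⟩
    · exact h.comm_z p hy
    · calc y * (s : G) * z = y * (s * z) := by group
        _ = (y * z) * s := by rw [hsz]; group
        _ = z * (y * s) := by rw [h.comm_z y hy]; group
  have hPp : IsPGroup 2 P := by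
    have hy4 : ∀ y ∈ Q, y ^ (2 ^ 2) = 1 := by
      intro y hy
      rw [show (2 ^ 2 : ℕ) = 4 from rfl]
      have : y ^ 4 = (y * y) * (y * y) := by simp only [pow_succ, pow_zero, one_mul, mul_assoc]
      rw [this]
      rcases h.sq y hy with h1 | h1 <;> rw [h1]
      · rw [one_mul]
      · exact h.z_sq
    rintro ⟨p, y, hy, hys, hp⟩
    refine ⟨2, ?_⟩
    apply Subtype.ext
    show p ^ (2 ^ 2) = 1
    rcases hp with rfl | rfl
    · exact hy4 p hy
    · have hc' : Commute y (s : G) := hys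
      rw [hc'.mul_pow, hy4 y hy, one_mul, hs4]
  obtain ⟨g, hg1, hg2, -, -⟩ := Cfsg.Agent.LargeExtra.TransferPow.exists_conj hG hle h2 (s : G) hs4 hev hsz hs0 P
    hPp hPs hPz
  obtain ⟨y, hy⟩ : ∃ y, y = g * z * g⁻¹ := ⟨_, rfl⟩
  rw [← hy] at hg1 hg2
  have hys : y * s = s * y := (hg2 s ⟨1, Q.one_mem, by group, Or.inr (by group)⟩).symm
  have hyE : ∀ x ∈ Q, x * s = s * x → x * y = y * x := fun x hx hxs => hg2 x ⟨x, hx, hxs, Or.inl rfl⟩
  have hyz : y * z = z * y := (hyE z h.z_mem hsz.symm).symm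
  have hyC : y ∈ Subgroup.centralizer ({z} : Set G) := Subgroup.mem_centralizer_singleton_iff.2 hyz
  have hy1 : y ≠ 1 := by
    intro h3
    apply h.z_ne
    have : z = g⁻¹ * y * g := by rw [hy]; group
    rw [this, h3]; group
  rcases S.pres ⟨y, hyC⟩ with hk | hk
  · have h3 : h.act ⟨y, hyC⟩ = 1 := by
      apply S.lag.eq_one (h.b_act _) hk
      have hfix : ∀ u ∈ U, h.b u (h.act s u) = 0 →
          h.act ⟨y, hyC⟩ u = u ∧ h.act ⟨y, hyC⟩ (h.act s u) = h.act s u := by
        intro u hu hb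
        obtain ⟨r, hr⟩ := h.pr_surjective (u + h.act s u)
        have h4 := hyE r r.2 (comm_of_graph hss hb hr)
        have h5 : h.act ⟨y, hyC⟩ (h.pr r) = h.pr r := by
          apply Pair.act_pr_coe
          show y * (r : G) * y⁻¹ = r
          rw [← h4]; group
        rw [hr, map_add] at h5
        exact S.lag.add_inj (hk.1 u hu) hu (hk.2 _ (hsf.1 u hu)) (hsf.1 u hu) h5
      intro u hu
      rcases zmod_two (h.b u (h.act s u)) with hb | hb
      · exact (hfix u hu hb).1
      · by_contra hne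
        obtain ⟨c, hc⟩ : ∃ c, c = h.act ⟨y, hyC⟩ u + u := ⟨_, rfl⟩
        have hcU : c ∈ U := hc ▸ U.add_mem (hk.1 u hu) hu
        have hc0 : c ≠ 0 := fun h0 => hne (eq_of_add h (hc ▸ h0))
        have h4 := halt c hcU hc0 (by
          intro v hv hbv
          rw [hc, map_add, LinearMap.add_apply]
          have h6 : h.b (h.act ⟨y, hyC⟩ u) (h.act s v) = h.b u (h.act s v) := by
            conv_lhs => rw [← (hfix v hv hbv).2]
            exact h.b_act _ _ _
          rw [h6]
          rcases zmod_two (h.b u (h.act s v)) with h7 | h7 <;> rw [h7] <;> decide)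
        have h5 := (hfix (c + u) (U.add_mem hcU hu) (by rw [I.beta_add, h4, hb]; decide)).1
        have h6 : h.act ⟨y, hyC⟩ u = c + u := by rw [hc, add_assoc, h.add_self, add_zero]
        rw [map_add, h6] at h5
        have h7 : h.act ⟨y, hyC⟩ c = 0 := by
          have h8 : h.act ⟨y, hyC⟩ c + (c + u) = 0 + (c + u) := by rw [h5, zero_add]
          exact add_right_cancel h8
        exact hc0 ((h.act ⟨y, hyC⟩).map_eq_zero_iff.1 h7)
    have hyQ : y ∈ Q := by
      have := S.lag.finQ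
      exact h.mem_of_act _ h3
    obtain ⟨u, hu, hb, hyu⟩ := graph_of_comm I hss hyQ hys
    by_cases hu0 : u = 0
    · rw [hu0, map_zero, add_zero] at hyu
      rcases h.pr_eq_zero.1 hyu with h4 | h4
      · exact hy1 h4
      · exact hg1 h4
    · exact not_conj_graph S I (c := ⟨y, hyQ⟩) hu hu0 hb hyu g hy.symm
  · refine not_conj_outer S hk ?_ g hy.symm
    show y * y = 1
    rw [hy]
    calc g * z * g⁻¹ * (g * z * g⁻¹) = g * (z * z) * g⁻¹ := by group
      _ = 1 := by rw [h.z_sq]; group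

end Cfsg.Agent.LargeExtra.WideIrr.FKill

end

section


/-!
# The Siegel case is impossible, any width `≥ 4` (helper754)

`false_of_allSg`: `G` finite without subgroup of index 2, `p : Pair Q z A a`, `dim V ≥ 8`, `H` fixes no nonzero
totally singular subspace, `|D̃| ≥ 4` ⇒ not all elements of `X` are Siegel elements.
-/

set_option autoImplicit false

namespace Cfsg.Agent.LargeExtra.WideIrr.SgKill

open Module
open Cfsg.Agent.Co2Type.Quad Cfsg.Agent.LargeExtra.Base Cfsg.Agent.LargeExtra.TwoCentral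
open Cfsg.Agent.LargeExtra.Siegel Cfsg.Agent.LargeExtra.SiegFam.Inst
open Cfsg.Agent.LargeExtra.Tri.CaseTwo (gl_of_transv card_of_finrank)

variable {G : Type*} [Group G] {Q A : Subgroup G} {z a : G}

/-- the Siegel case is impossible -/
theorem false_of_allSg [Finite G] (hG : ∀ H : Subgroup G, H.index ≠ 2) (p : Pair Q z A a)
    (h8 : 8 ≤ finrank (ZMod 2) p.lz.V) (hirr : Irr p) (hS : AllSg p) (hd : 4 ≤ Nat.card p.D) : False := by
  obtain ⟨U, U', S⟩ := siegel_case p hS h8 hirr hd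
  have hfd : Module.Finite (ZMod 2) p.lz.V := Module.Finite.of_finite
  obtain ⟨n, hU⟩ : ∃ n, n = finrank (ZMod 2) U := ⟨_, rfl⟩
  have hU' : finrank (ZMod 2) U' = n := by have := S.dim'; have := S.dim; omega
  have hfr : finrank (ZMod 2) p.lz.V = 2 * n := by have := S.dim; omega
  have hb : ∀ u ∈ U, ∀ v ∈ U, p.lz.b u v = 0 := by
    intro u hu v hv
    have h1 := p.lz.q_add' u v
    rw [S.q_U _ (U.add_mem hu hv), S.q_U _ hu, S.q_U _ hv, add_zero, zero_add] at h1
    exact h1.symm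
  have hspan : ∀ v, ∃ u ∈ U, ∃ w ∈ U', v = u + w := by
    have hdis : U ⊓ U' = ⊥ := by
      rw [eq_bot_iff]
      rintro v ⟨h1, h2⟩
      exact S.disj v h1 h2
    have h1 := Submodule.finrank_sup_add_finrank_inf_eq U U'
    rw [hdis, finrank_bot, add_zero, ← hU, hU'] at h1
    have h2 : U ⊔ U' = ⊤ := Submodule.eq_top_of_finrank_eq (by rw [h1, hfr]; omega)
    intro v
    have h3 : v ∈ U ⊔ U' := by rw [h2]; trivial
    obtain ⟨u, hu, w, hw, h⟩ := Submodule.mem_sup.1 h3
    exact ⟨u, hu, w, hw, h.symm⟩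
  refine FKill.kill hG (n := n) (h := p.lz) (U := U) (W := U') ?_
  refine ⟨⟨inferInstance, hspan, S.q_U, S.q_U', S.disj⟩, by omega, card_of_finrank hU.symm, card_of_finrank hfr,
    ?_, ?_, ?_⟩
  · intro c
    exact S.perm _ ⟨c, rfl⟩
  · obtain ⟨_, ⟨c, rfl⟩, h1⟩ := S.flip
    exact ⟨c, h1⟩
  · intro φ
    obtain ⟨_, ⟨c, rfl⟩, h1⟩ := gl_of_transv p.H U (by
      intro x hx hx0 ψ hψ
      obtain ⟨v, hv⟩ := p.lz.exists_b_eq ψ
      obtain ⟨u, hu, w, hw, rfl⟩ := hspan v
      have hw' : ∀ y ∈ U, ψ y = p.lz.b w y := by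
        intro y hy
        rw [← hv, map_add, LinearMap.add_apply, hb u hu y hy, zero_add]
      obtain ⟨h, hh, e⟩ := S.siegel x hx hx0 w hw (by
        rw [p.lz.b_comm, ← hw' x hx]; exact hψ)
      refine ⟨h, hh, fun y hy => ?_⟩
      rw [e, SiegFam.sg, hb x hx y hy, hw' y hy]
      simp) φ
    exact ⟨c, h1⟩

end Cfsg.Agent.LargeExtra.WideIrr.SgKill

end
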